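import Groth.Agent.Lib.TopDiff
import Groth.Agent.RefX.Hom
import Groth.Agent.Ref1X.Big
import Groth.Agent.RhoSh6.DetExt
import Groth.Prelude.Def_ExtPow2

/-!
# Local bases and wedges
-/

set_option autoImplicit false
set_option linter.unusedSectionVars false
set_option linter.style.haveILetI false
set_option backward.isDefEq.respectTransparency false
set_option backward.isDefEq.respectTransparency.types false
set_option maxHeartbeats 1000000

universe u

open CategoryTheory AlgebraicGeometry TopologicalSpace Opposite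

namespace Groth.Agent.Deform.RefChK

open Groth.Agent

variable {X : Scheme.{u}} {F W : X.Modules}

/-- Sections restricting to bases on affine opens give bases of the stalks. -/
theorem germ_sum_bijective {U : X.Opens} {k : ℕ} (b : Fin k → Γ(F, U))
    (hb : ∀ V : X.Opens, IsAffineOpen V → ∀ h : V ≤ U,
      Function.Bijective fun c : Fin k → Γ(X, V) => ∑ i, c i • AModX.res F h (b i)) {x : X} (hx : x ∈ U) :
    Function.Bijective fun c : Fin k → X.presheaf.stalk x => ∑ i, c i • F.presheaf.germ U x hx (b i) := by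
  classical
  have shrink : ∀ (W : X.Opens), x ∈ W → ∃ V : X.Opens, IsAffineOpen V ∧ x ∈ V ∧ V ≤ W ⊓ U := fun W hW => by
    obtain ⟨_, ⟨V, hV, rfl⟩, hxV, hVW⟩ := X.isBasis_affineOpens.exists_subset_of_mem_open
      (show x ∈ W ⊓ U from ⟨hW, hx⟩) (W ⊓ U).isOpen
    exact ⟨V, hV, hxV, hVW⟩
  have comb : ∀ (V : X.Opens) (hVU : V ≤ U) (hxV : x ∈ V) (c : Fin k → Γ(X, V)),
      F.presheaf.germ V x hxV (∑ i, c i • AModX.res F hVU (b i)) =
        ∑ i, X.presheaf.germ V x hxV (c i) • F.presheaf.germ U x hx (b i) := fun V hVU hxV c => by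
    refine (map_sum (F.presheaf.germ V x hxV).hom _ _).trans (Finset.sum_congr rfl fun i _ => ?_)
    exact (QCoh.germ_smul' F hxV (c i) _).trans (congrArg (_ • ·) (RefX.germ_res F hVU hxV (b i)))
  have coef : ∀ c : Fin k → X.presheaf.stalk x, ∃ (V : X.Opens) (_ : IsAffineOpen V) (hVU : V ≤ U) (hxV : x ∈ V)
      (r : Fin k → Γ(X, V)), ∀ i, X.presheaf.germ V x hxV (r i) = c i := fun c => by
    choose Wc hWc rc hrc using fun i => X.presheaf.exists_germ_eq (x := x) (c i)
    obtain ⟨V, hV, hxV, hle⟩ := shrink ⟨⋂ i, (Wc i : Set X), isOpen_iInter_of_finite fun i => (Wc i).isOpen⟩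
      (Set.mem_iInter.2 hWc)
    have hVi : ∀ i, V ≤ Wc i := fun i => (hle.trans inf_le_left).trans fun y hy => Set.mem_iInter.1 hy i
    exact ⟨V, hV, hle.trans inf_le_right, hxV, fun i => AModX.resR (hVi i) (rc i),
      fun i => (RefX.germ_resR (hVi i) hxV (rc i)).trans (hrc i)⟩
  refine ⟨fun c c' h => ?_, fun v => ?_⟩
  · suffices ∀ c : Fin k → X.presheaf.stalk x, ∑ i, c i • F.presheaf.germ U x hx (b i) = 0 → c = 0 by
      refine sub_eq_zero.1 (this (c - c') ?_)
      simp only [Pi.sub_apply, sub_smul, Finset.sum_sub_distrib]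
      exact sub_eq_zero.2 h
    intro c hc
    obtain ⟨V, hV, hVU, hxV, r, hr⟩ := coef c
    have h0 : F.presheaf.germ V x hxV (∑ i, r i • AModX.res F hVU (b i)) = F.presheaf.germ V x hxV 0 := by
      rw [comb V hVU hxV r, map_zero]
      exact (Finset.sum_congr rfl fun i _ => by rw [hr]).trans hc
    obtain ⟨W', hxW, i₁, i₂, he⟩ := F.presheaf.germ_eq x hxV hxV _ _ h0
    obtain ⟨V', hV', hxV', hle⟩ := shrink W' hxW
    have hV'V : V' ≤ V := (hle.trans inf_le_left).trans i₁.le
    have h1 := congrArg (AModX.res F (hle.trans inf_le_left : V' ≤ W')) he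
    have h2 : AModX.res F hV'V (∑ i, r i • AModX.res F hVU (b i)) = 0 :=
      (AModX.res_res i₁.le (hle.trans inf_le_left) _).symm.trans (h1.trans (by
        rw [map_zero]; exact map_zero _))
    rw [map_sum] at h2
    have h3 : (fun i => AModX.resR hV'V (r i)) = 0 := by
      refine (hb V' hV' (hV'V.trans hVU)).1 ?_
      simp only [Pi.zero_apply, zero_smul, Finset.sum_const_zero]
      refine Eq.trans (Finset.sum_congr rfl fun i _ => ?_) h2
      rw [AModX.res_smul, AModX.res_res]
    funext i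
    rw [← hr i, ← RefX.germ_resR hV'V hxV' (r i), show AModX.resR hV'V (r i) = 0 from congrFun h3 i, map_zero]
    rfl
  · obtain ⟨W', hxW, m, rfl⟩ := F.presheaf.germ_exist v
    obtain ⟨V, hV, hxV, hle⟩ := shrink W' hxW
    obtain ⟨r, hr⟩ := (hb V hV (hle.trans inf_le_right)).2 (AModX.res F (hle.trans inf_le_left) m)
    refine ⟨fun i => X.presheaf.germ V x hxV (r i), ?_⟩
    rw [← RefX.germ_res F (hle.trans inf_le_left) hxV m, ← hr, comb V (hle.trans inf_le_right) hxV r]

/-- The stalk basis of sections restricting to bases. -/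
theorem exists_basis {U : X.Opens} {k : ℕ} (b : Fin k → Γ(F, U))
    (hb : ∀ V : X.Opens, IsAffineOpen V → ∀ h : V ≤ U,
      Function.Bijective fun c : Fin k → Γ(X, V) => ∑ i, c i • AModX.res F h (b i)) {x : X} (hx : x ∈ U) :
    ∃ B : Module.Basis (Fin k) (X.presheaf.stalk x) (F.presheaf.stalk x),
      ∀ i, B i = F.presheaf.germ U x hx (b i) := by
  obtain ⟨B, hB⟩ := Groth.Agent.TopDiff.basis_of_unique (R := X.presheaf.stalk x)
    (fun i => (F.presheaf.germ U x hx (b i) : F.presheaf.stalk x)) (germ_sum_bijective b hb hx)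
  exact ⟨B, fun i => congrFun hB i⟩

/-- The wedge of sections, as a section of an exterior power. -/
noncomputable abbrev wedge {r : ℕ}
    (φ : ∀ U : X.affineOpens, (W.val.obj (op U.1)) ≃ₗ[Γ(X, U.1)] ↥(⋀[Γ(X, U.1)]^r (F.val.obj (op U.1))))
    (U : X.affineOpens) (v : Fin r → Γ(F, U.1)) : Γ(W, U.1) :=
  (φ U).symm (exteriorPower.ιMulti _ r v)

/-- The wedge in terms of a basis. -/
theorem wedge_eq {r : ℕ}
    (φ : ∀ U : X.affineOpens, (W.val.obj (op U.1)) ≃ₗ[Γ(X, U.1)] ↥(⋀[Γ(X, U.1)]^r (F.val.obj (op U.1))))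
    (U : X.affineOpens) (B : Module.Basis (Fin r) Γ(X, U.1) (F.val.obj (op U.1))) (v : Fin r → Γ(F, U.1)) :
    wedge φ U v = B.det v • wedge φ U (fun i => B i) := by
  obtain ⟨c, hc⟩ := (Groth.Agent.TopDiff.bijective_ιMulti_basis B).2 (exteriorPower.ιMulti Γ(X, U.1) r v)
  dsimp only at hc
  have hd := congrArg (exteriorPower.alternatingMapLinearEquiv B.det) hc
  rw [map_smul, exteriorPower.alternatingMapLinearEquiv_apply_ιMulti,
    exteriorPower.alternatingMapLinearEquiv_apply_ιMulti, Module.Basis.det_self, smul_eq_mul, _root_.mul_one] at hd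
  subst hd
  show (φ U).symm _ = _ • (φ U).symm _
  rw [← map_smul]
  exact congrArg _ hc.symm

end Groth.Agent.Deform.RefChK
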