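import Groth.Agent.H9ChowK.Compare
import Groth.Agent.H9ChowK.Twist
import Groth.Agent.AmpleVan.Tw
import Groth.Agent.H23.PicMul
import Groth.Prelude.Def_FGA
import Groth.Agent.DimFormula.DimAdd
import Mathlib.Algebra.MonoidAlgebra.Basic

/-!
# The dimension filtration on `K₀` of coherent modules and twisting operators
-/

set_option autoImplicit false
set_option linter.unusedSectionVars false
set_option linter.style.haveILetI false
set_option backward.isDefEq.respectTransparency false
set_option backward.isDefEq.respectTransparency.types false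

universe u

open CategoryTheory CategoryTheory.Limits AlgebraicGeometry TopologicalSpace Opposite
open Groth.Agent.H23.PicMul

namespace Groth.Agent.Deform.RefChK

open Groth.Agent H9ChowK

variable {X : Scheme.{u}} [IsLocallyNoetherian X] {δ : X → ℤ} {n m : ℤ}

/-- The subgroup of classes of modules of dimension at most `m`. -/
noncomputable def G (δ : X → ℤ) (n m : ℤ) : AddSubgroup (KZero.K0sub (Cyc.CohLe δ n)) :=
  AddSubgroup.closure {c | ∃ F : X.Modules, Cyc.CohLe δ m F ∧ c = cls δ n F}

theorem cls_mem {F : X.Modules} (hF : Cyc.CohLe δ m F) : cls δ n F ∈ G δ n m :=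
  AddSubgroup.subset_closure ⟨F, hF, rfl⟩

theorem G_mono {a b : ℤ} (h : a ≤ b) : G δ n a ≤ G δ n b :=
  AddSubgroup.closure_mono fun _ ⟨F, hF, e⟩ => ⟨F, cohLe_mono h hF, e⟩

theorem toK0_eq_iff {b : ℤ} (F F' : X.Modules) :
    Cyc.toK0CohQuot δ n b F = Cyc.toK0CohQuot δ n b F' ↔ cls δ n F - cls δ n F' ∈ G δ n b :=
  QuotientAddGroup.eq_iff_sub_mem

/-- Modules with the same lengths at the points of dimension `m` have classes congruent modulo `G (m - 1)`. -/
theorem sub_mem_of_sheafFun (hd : Cyc.IsDimFun X δ) (hmn : m ≤ n) {F F' : X.Modules} (hF : Cyc.CohLe δ m F)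
    (hF' : Cyc.CohLe δ m F') (h : Cyc.sheafFun δ m F = Cyc.sheafFun δ m F') :
    cls δ n F - cls δ n F' ∈ G δ n (m - 1) := by
  obtain ⟨j, hj⟩ := KZ.exists_liftSub (Cyc.CohLe δ m) (cls δ n) fun S hS h₁ h₂ h₃ =>
    KZ.clSub_ses _ hS (cohLe_mono hmn h₁) (cohLe_mono hmn h₂) (cohLe_mono hmn h₃)
  have h1 := QuotientAddGroup.eq_iff_sub_mem.1 (toK0_eq_of_sheafFun_eq hd hF hF' h)
  have h2 : AddSubgroup.closure {c : KZero.K0sub (Cyc.CohLe δ m) |
      ∃ H : X.Modules, Cyc.CohLe δ (m - 1) H ∧ c = KZero.clSub (Cyc.CohLe δ m) H} ≤ (G δ n (m - 1)).comap j := by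
    rw [AddSubgroup.closure_le]
    rintro c ⟨H, hH, rfl⟩
    rw [SetLike.mem_coe, AddSubgroup.mem_comap, hj H (cohLe_mono (by omega) hH)]
    exact cls_mem hH
  have h3 : j (KZero.clSub (Cyc.CohLe δ m) F - KZero.clSub (Cyc.CohLe δ m) F') ∈ G δ n (m - 1) := h2 h1
  rwa [map_sub, hj F hF, hj F' hF'] at h3

/-- A map bijective above dimension `m` changes the class by an element of `G m`. -/
theorem sub_mem_of_map {A B : X.Modules} (f : A ⟶ B) (hA : Cyc.CohLe δ n A) (hB : Cyc.CohLe δ n B)
    (hf : ∀ x, m < δ x → Function.Bijective (CycLib.stalkLin f x)) : cls δ n B - cls δ n A ∈ G δ n m := by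
  have qK := QCoh.isQCoh_kernel hA.1.1 hB.1.1 f
  have hK := cohLe_of_mono (kernel.ι f) qK hA
  have qQ := (QCoh.isCoh_cokernel hA.1.1 hB.1 f).1
  have hQ := cohLe_of_epi (cokernel.π f) qQ hB
  have qI := QCoh.isQCoh_cokernel qK hA.1.1 (kernel.ι f)
  have bad : ∀ x, m < δ x →
      Subsingleton ((kernel f).presheaf.stalk x) ∧ Subsingleton ((cokernel f).presheaf.stalk x) := fun x hx => by
    have e2 : (ShortComplex.mk (Abelian.factorThruCoimage f) (cokernel.π (Abelian.factorThruCoimage f))
        (cokernel.condition _)).ShortExact := KZ.shortExact_of_mono _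
    have e1 : (ShortComplex.mk (kernel.ι f) (Abelian.coimage.π f) (cokernel.condition _)).ShortExact :=
      KZ.shortExact_of_mono _
    obtain ⟨a1, a2, a3⟩ := CycLib.stalk_shortExact e1 qK hA.1.1 qI x
    refine ⟨subsingleton_of_forall_eq 0 fun t => a1 ((?_ : _ = (0 : A.presheaf.stalk x)).trans (map_zero _).symm),
      subsingleton_of_forall_eq 0 fun t => ?_⟩
    · refine (hf x hx).1 ?_
      refine Eq.trans ?_ (map_zero _).symm
      refine (stalkLin_comp (kernel.ι f) f x t).symm.trans ?_
      rw [kernel.condition]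
      exact stalkLin_zero x t
    · haveI : Epi (cokernel.π f) := inferInstance
      obtain ⟨b, rfl⟩ := (CycLib.stalk_shortExact (KZ.kerSeq_shortExact (cokernel.π f))
        (QCoh.isQCoh_kernel hB.1.1 qQ _) hB.1.1 qQ x).2.2 t
      obtain ⟨a, rfl⟩ := (hf x hx).2 b
      show CycLib.stalkLin (cokernel.π f) x (CycLib.stalkLin f x a) = 0
      rw [← stalkLin_comp, cokernel.condition]
      exact stalkLin_zero x a
  have lowK : Cyc.CohLe δ m (kernel f) := ⟨hK.1, fun x hx => le_of_not_gt fun h =>
    not_subsingleton_iff_nontrivial.2 hx (bad x h).1⟩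
  have lowQ : Cyc.CohLe δ m (cokernel f) := ⟨hQ.1, fun x hx => le_of_not_gt fun h =>
    not_subsingleton_iff_nontrivial.2 hx (bad x h).2⟩
  have h4 := cls_four f hA hB
  rw [show cls δ n B - cls δ n A = cls δ n (cokernel f) - cls δ n (kernel f) by
    rw [sub_eq_sub_iff_add_eq_add, h4]; abel]
  exact sub_mem (cls_mem lowQ) (cls_mem lowK)

theorem G_eq_bot (h0 : ∀ x, 0 ≤ δ x) (hm : m < 0) : G δ n m = ⊥ := by
  rw [G, AddSubgroup.closure_eq_bot_iff]
  rintro c ⟨F, hF, rfl⟩
  have hs : ∀ x, Subsingleton (F.presheaf.stalk x) := fun x => not_not.1 fun h => by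
    have := hF.2 x (not_subsingleton_iff_nontrivial.1 h)
    have := h0 x
    omega
  have hz : IsZero F := QCoh.isZero_of_app_eq_zero hF.1.1 fun W s =>
    TopCat.Presheaf.section_ext ⟨F.presheaf, F.isSheaf⟩ _ _ _ fun y hy =>
      haveI := hs y
      Subsingleton.elim _ _
  exact KZ.clSub_isZero _ hz

/-! ### The twisting operators -/

/-- The invertible classes. -/
noncomputable def invCl (X : Scheme.{u}) : Submonoid (PicF.Cl X) where
  carrier := {c | PicF.IsInvertibleCl c}
  mul_mem' := isInvertibleCl_mul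
  one_mem' := ⟨_, one_def.symm, PicLoc.isInvertible_structureModule X⟩

/-- A representative. -/
noncomputable def rep (q : invCl X) : X.Modules := Classical.choose q.2

theorem rep_spec (q : invCl X) : PicF.cl (rep q) = q.1 ∧ PicF.IsInvertible (rep q) := by
  obtain ⟨h1, h2⟩ := Classical.choose_spec q.2
  exact ⟨h1, h2⟩

variable (δ n) in
/-- The twist by an invertible class. -/
theorem exists_op (q : invCl X) : ∃ T : AddMonoid.End (KZero.K0sub (Cyc.CohLe δ n)),
    ∀ F, Cyc.CohLe δ n F → T (cls δ n F) = cls δ n (CohB1.tensorMod F (rep q)) := by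
  have hP := (rep_spec q).2
  haveI := AmpleVan.isEquivalence_tw hP
  haveI : (AmpleVan.tw (rep q)).Additive := Functor.additive_of_preserves_binary_products _
  exact KZ.exists_liftSub _ (fun F => cls δ n (CohB1.tensorMod F (rep q))) fun S hS h₁ h₂ h₃ =>
    KZ.clSub_ses _ (hS.map_of_exact (AmpleVan.tw (rep q))) (cohLe_tensor hP h₁) (cohLe_tensor hP h₂) (cohLe_tensor hP h₃)

variable (δ n) in
/-- The twist by an invertible class. -/
noncomputable def op (q : invCl X) : AddMonoid.End (KZero.K0sub (Cyc.CohLe δ n)) :=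
  Classical.choose (exists_op δ n q)

theorem op_cls (q : invCl X) {L F : X.Modules} (hq : PicF.cl L = q.1) (hF : Cyc.CohLe δ n F) :
    op δ n q (cls δ n F) = cls δ n (CohB1.tensorMod F L) := by
  rw [op, Classical.choose_spec (exists_op δ n q) F hF]
  obtain ⟨e⟩ := cl_eq_iff.1 ((rep_spec q).1.trans hq.symm)
  exact cls_iso (PicGrp.tensorModIso (Iso.refl F) e) (cohLe_tensor (rep_spec q).2 hF)

variable (δ n) in
/-- The twists form a monoid action. -/
noncomputable def opHom : invCl X →* AddMonoid.End (KZero.K0sub (Cyc.CohLe δ n)) where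
  toFun := op δ n
  map_one' := KZ.K0sub_hom_ext _ fun F hF => by
    rw [op_cls (L := Coh.structureModule X) 1 one_def.symm hF]
    exact cls_iso (unit F).some (cohLe_tensor (PicLoc.isInvertible_structureModule X) hF)
  map_mul' a b := KZ.K0sub_hom_ext _ fun F hF => by
    rw [op_cls (L := CohB1.tensorMod (rep b) (rep a)) (a * b)
      (by rw [cl_tensor, (rep_spec a).1, (rep_spec b).1, Submonoid.coe_mul, _root_.mul_comm]) hF]
    show _ = op δ n a (op δ n b (cls δ n F))
    rw [op_cls b (rep_spec b).1 hF, op_cls a (rep_spec a).1 (cohLe_tensor (rep_spec b).2 hF)]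
    exact (cls_iso (assoc F (rep b) (rep a)).some (cohLe_tensor (rep_spec a).2 (cohLe_tensor (rep_spec b).2 hF))).symm

variable (δ n) in
/-- The action of the group ring of invertible classes. -/
noncomputable def act : MonoidAlgebra ℤ (invCl X) →ₐ[ℤ] AddMonoid.End (KZero.K0sub (Cyc.CohLe δ n)) :=
  MonoidAlgebra.lift ℤ (AddMonoid.End (KZero.K0sub (Cyc.CohLe δ n))) (invCl X) (opHom δ n)

theorem act_of (q : invCl X) : act δ n (MonoidAlgebra.of ℤ (invCl X) q) = op δ n q :=
  MonoidAlgebra.lift_of _ _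

/-- The element `1 - [q]`. -/
noncomputable def D (q : invCl X) : MonoidAlgebra ℤ (invCl X) := 1 - MonoidAlgebra.of ℤ (invCl X) q

theorem act_D_apply (q : invCl X) (x : KZero.K0sub (Cyc.CohLe δ n)) : act δ n (D q) x = x - op δ n q x := by
  rw [D, map_sub, map_one, act_of]
  rfl

/-- `1 - [q]` lowers the dimension. -/
theorem act_D_mem (hd : Cyc.IsDimFun X δ) (q : invCl X) (hmn : m ≤ n) {x : KZero.K0sub (Cyc.CohLe δ n)}
    (hx : x ∈ G δ n m) : act δ n (D q) x ∈ G δ n (m - 1) := by
  refine (AddSubgroup.closure_le (K := (G δ n (m - 1)).comap (act δ n (D q)))).2 ?_ hx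
  rintro c ⟨F, hF, rfl⟩
  rw [SetLike.mem_coe, AddSubgroup.mem_comap]
  show act δ n (D q) (cls δ n F) ∈ _
  rw [act_D_apply, op_cls q (rep_spec q).1 (cohLe_mono hmn hF)]
  exact sub_mem_of_sheafFun hd hmn hF (cohLe_tensor (rep_spec q).2 hF) (sheafFun_tensor (rep_spec q).2).symm

theorem act_prod_mem {ι : Type*} (hd : Cyc.IsDimFun X δ) (s : Finset ι) (q : ι → invCl X) (hmn : m ≤ n)
    {x : KZero.K0sub (Cyc.CohLe δ n)} (hx : x ∈ G δ n m) :
    act δ n (∏ i ∈ s, D (q i)) x ∈ G δ n (m - s.card) := by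
  classical
  induction s using Finset.induction with
  | empty => simpa using hx
  | insert a s ha ih =>
    rw [Finset.prod_insert ha, map_mul, Finset.card_insert_of_notMem ha]
    show act δ n (D (q a)) (act δ n (∏ i ∈ s, D (q i)) x) ∈ _
    rw [show m - ((s.card + 1 : ℕ) : ℤ) = m - (s.card : ℤ) - 1 by push_cast; ring]
    exact act_D_mem hd (q a) (by omega) ih

theorem end_sum_apply {K ι : Type*} [AddCommGroup K] (s : Finset ι) (f : ι → AddMonoid.End K) (x : K) :
    (∑ i ∈ s, f i) x = ∑ i ∈ s, f i x := by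
  classical
  induction s using Finset.induction with
  | empty => rfl
  | insert a s ha ih => rw [Finset.sum_insert ha, Finset.sum_insert ha, ← ih]; rfl

theorem neg_one_pow_apply {K : Type*} [AddCommGroup K] (x : K) (k : ℕ) :
    ((-1 : AddMonoid.End K) ^ k) x = ((-1 : ℤ) ^ k) • x := by
  induction k with
  | zero => rw [pow_zero, pow_zero, one_zsmul]; rfl
  | succ k ih =>
    rw [pow_succ', pow_succ']
    show -(((-1 : AddMonoid.End K) ^ k) x) = _
    rw [ih, neg_one_mul, neg_zsmul]

/-- The alternating sum is the action of the product. -/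
theorem altSum_eq {r : ℕ} (M : Fin r → X.Modules) (hM : ∀ i, PicF.IsInvertible (M i)) {F : X.Modules}
    (hF : Cyc.CohLe δ n F) :
    ∑ I : Finset (Fin r), ((-1 : ℤ) ^ I.card) •
        cls δ n (CohB1.tensorMod (FGA.tensorList ((I.sort (· ≤ ·)).map M)) F) =
      act δ n (∏ i, D (⟨PicF.cl (M i), M i, rfl, hM i⟩ : invCl X)) (cls δ n F) := by
  classical
  simp only [D, Finset.prod_sub, Finset.prod_const_one, _root_.mul_one, Finset.powerset_univ, map_sum,
    end_sum_apply]
  refine Finset.sum_congr rfl fun I _ => ?_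
  rw [← map_prod (MonoidAlgebra.of ℤ (invCl X)), map_mul, map_pow, map_neg, map_one, act_of]
  obtain ⟨P, hP, hPinv⟩ : PicF.IsInvertibleCl
      (((∏ i ∈ I, (⟨PicF.cl (M i), M i, rfl, hM i⟩ : invCl X)) : invCl X) : PicF.Cl X) :=
    Subtype.property _
  have hP' : PicF.cl P = PicF.cl (FGA.tensorList ((I.sort (· ≤ ·)).map M)) := by
    rw [hP, Submonoid.coe_finset_prod, show ∀ l : List (Fin r), PicF.cl (FGA.tensorList (l.map M)) =
        (l.map fun i => PicF.cl (M i)).prod from fun l => by
      induction l with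
      | nil => rw [List.map_nil, List.map_nil, List.prod_nil, one_def]; rfl
      | cons a l ih =>
        show PicF.cl (CohB1.tensorMod (M a) (FGA.tensorList (l.map M))) = _
        rw [cl_tensor, ih, List.map_cons, List.prod_cons],
      ← List.prod_toFinset _ (Finset.sort_nodup _ _), Finset.sort_toFinset]
  have hcomm : PicF.cl (CohB1.tensorMod F P) = PicF.cl (CohB1.tensorMod (FGA.tensorList ((I.sort (· ≤ ·)).map M)) F) := by
    rw [cl_tensor, cl_tensor, hP', _root_.mul_comm]
  show (-1 : ℤ) ^ I.card • _ = ((-1 : AddMonoid.End (KZero.K0sub (Cyc.CohLe δ n))) ^ I.card)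
    (op δ n (∏ i ∈ I, (⟨PicF.cl (M i), M i, rfl, hM i⟩ : invCl X)) (cls δ n F))
  rw [op_cls _ hP hF, ← cls_iso (cl_eq_iff.1 hcomm).some (cohLe_tensor hPinv hF)]
  exact (neg_one_pow_apply _ _).symm

/-- A dimension function is nonnegative when the dimension is its value at the generic point. -/
theorem nonneg [IsIntegral X] (hd : Cyc.IsDimFun X δ) {N : ℕ} (hdim : topologicalKrullDim X ≤ N)
    (hη : (N : ℤ) ≤ δ (genericPoint X)) (x : X) : 0 ≤ δ x := by
  have hbound : ∀ y : X, Order.coheight y ≤ (N : ℕ∞) := fun y => by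
    have h1 := (Order.coheight_le_krullDim y).trans ((DimFormula.topDim_eq_krullDim X).symm.le.trans hdim)
    exact WithBot.coe_le_coe.1 h1
  suffices key : ∀ c : ℕ, ∀ y : X, Order.coheight y ≤ (c : ℕ∞) → δ (genericPoint X) ≤ δ y + c by
    have := key N x (hbound x)
    omega
  intro c
  induction c using Nat.strong_induction_on with
  | _ c ih =>
    intro y hy
    by_cases hyη : y = genericPoint X
    · subst hyη; omega
    have hne : {z : X | y < z}.Nonempty :=
      ⟨genericPoint X, lt_of_le_not_ge (genericPoint_specializes y) fun h =>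
        hyη (Specializes.antisymm h (genericPoint_specializes y)).eq⟩
    let f : X → ℕ := fun z => (Order.coheight z).toNat
    have hfin : ∀ z : X, ((f z : ℕ) : ℕ∞) = Order.coheight z := fun z =>
      ENat.coe_toNat ((hbound z).trans_lt (ENat.coe_lt_top N)).ne
    have hS : (f '' {z : X | y < z}).Finite := (Set.finite_Iic N).subset <| by
      rintro _ ⟨z, -, rfl⟩
      have := hbound z
      rw [← hfin z] at this
      exact_mod_cast this
    obtain ⟨_, ⟨z, hz, rfl⟩, hmax⟩ := Set.exists_max_image (f '' {z : X | y < z}) id hS (hne.image f)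
    have hlt : Order.coheight z < Order.coheight y := Order.coheight_strictAnti hz ((hfin z) ▸ ENat.coe_lt_top _)
    have hfy : f z < c := by
      have := hlt.trans_le hy
      rw [← hfin z] at this
      exact_mod_cast this
    have himm : δ z = δ y + 1 := (hd z y hz.le hz.ne').2 fun w h1 h2 => by
      by_contra hw
      push Not at hw
      have hyw : y < w := lt_of_le_not_ge h2 fun h => hw.2 (Specializes.antisymm h2 h).eq
      have hwz : w < z := lt_of_le_not_ge h1 fun h => hw.1 (Specializes.antisymm h h1).eq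
      have := Order.coheight_strictAnti hwz ((hfin z) ▸ ENat.coe_lt_top _)
      rw [← hfin z, ← hfin w] at this
      exact absurd (hmax (f w) ⟨w, hyw, rfl⟩) (not_le.2 (by exact_mod_cast this))
    have := ih (f z) hfy z (hfin z).ge
    omega

end Groth.Agent.Deform.RefChK
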