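import Groth.Agent.Deform.RefChK.Basic

/-!
# Classes of iterated cokernels
-/

set_option autoImplicit false
set_option linter.unusedSectionVars false
set_option linter.style.haveILetI false
set_option backward.isDefEq.respectTransparency false
set_option backward.isDefEq.respectTransparency.types false

universe u

open CategoryTheory CategoryTheory.Limits AlgebraicGeometry

namespace Groth.Agent.Deform.RefChK

open Groth.Agent H9ChowK

variable {X : Scheme.{u}} [IsLocallyNoetherian X] {δ : X → ℤ} {n m : ℤ}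

/-- Stalks of a cokernel. -/
theorem coker_stalk {A B : X.Modules} (f : A ⟶ B) (hA : Coh.IsCoh A) (hB : Coh.IsCoh B) (x : X) :
    Function.Surjective (CycLib.stalkLin (cokernel.π f) x) ∧
      ∀ b, CycLib.stalkLin (cokernel.π f) x b = 0 ↔ ∃ a, CycLib.stalkLin f x a = b := by
  have qK := QCoh.isQCoh_kernel hA.1 hB.1 f
  have qQ := (QCoh.isCoh_cokernel hA.1 hB f).1
  have qI := QCoh.isQCoh_cokernel qK hA.1 (kernel.ι f)
  have e2 : (ShortComplex.mk (Abelian.factorThruCoimage f) (cokernel.π f)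
      (by rw [← cancel_epi (Abelian.coimage.π f), ← Category.assoc, Abelian.coimage.fac, cokernel.condition,
        comp_zero])).ShortExact :=
    { exact := ShortComplex.exact_of_g_is_cokernel _ (CokernelCofork.IsColimit.ofπ' _ _ fun {W} k hk =>
        ⟨cokernel.desc f k (by rw [← Abelian.coimage.fac f, Category.assoc, hk, comp_zero]),
          cokernel.π_desc _ _ _⟩) }
  obtain ⟨-, b2, b3⟩ := CycLib.stalk_shortExact e2 qI hB.1 qQ x
  refine ⟨b3, fun b => ⟨fun hb => ?_, ?_⟩⟩
  · obtain ⟨i, hi⟩ := (b2 b).1 hb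
    obtain ⟨a, ha⟩ := (CycLib.stalk_shortExact (KZ.shortExact_of_mono (kernel.ι f)) qK hA.1 qI x).2.2 i
    refine ⟨a, ?_⟩
    rw [← Abelian.coimage.fac f, stalkLin_comp]
    exact (congrArg _ ha).trans hi
  · rintro ⟨a, rfl⟩
    rw [← stalkLin_comp, cokernel.condition, stalkLin_zero]

/-- A kernel is small where the map is injective. -/
theorem kernel_cohLe {A B : X.Modules} (f : A ⟶ B) (hA : Cyc.CohLe δ n A) (hB : Coh.IsCoh B)
    (hf : ∀ x, m < δ x → Function.Injective (CycLib.stalkLin f x)) : Cyc.CohLe δ m (kernel f) := by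
  have qK := QCoh.isQCoh_kernel hA.1.1 hB.1 f
  have qI := QCoh.isQCoh_cokernel qK hA.1.1 (kernel.ι f)
  refine ⟨(cohLe_of_mono (kernel.ι f) qK hA).1, fun x hx => le_of_not_gt fun hgt => ?_⟩
  obtain ⟨a1, a2, -⟩ := CycLib.stalk_shortExact (KZ.shortExact_of_mono (kernel.ι f)) qK hA.1.1 qI x
  refine not_subsingleton_iff_nontrivial.2 hx (subsingleton_of_forall_eq 0 fun v => a1 ?_)
  refine Eq.trans ?_ (map_zero _).symm
  refine hf x hgt ((stalkLin_comp (kernel.ι f) f x v).symm.trans ?_)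
  rw [kernel.condition, stalkLin_zero, map_zero]

/-- The quotient by finitely many maps from one module which are independent above dimension `m`. -/
theorem exists_multiCoker {L G' : X.Modules} (hL : Cyc.CohLe δ n L) (hG : Cyc.CohLe δ n G') :
    ∀ {k : ℕ} (ψ : Fin k → (L ⟶ G')),
      (∀ x, m < δ x → Function.Injective fun v : Fin k → L.presheaf.stalk x => ∑ i, CycLib.stalkLin (ψ i) x (v i)) →
      ∃ (Q : X.Modules) (π : G' ⟶ Q), Cyc.CohLe δ n Q ∧ cls δ n G' - k • cls δ n L - cls δ n Q ∈ G δ n m ∧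
        ∀ x, Function.Surjective (CycLib.stalkLin π x) ∧ ∀ b, CycLib.stalkLin π x b = 0 ↔
          ∃ v : Fin k → L.presheaf.stalk x, ∑ i, CycLib.stalkLin (ψ i) x (v i) = b := by
  intro k
  induction k with
  | zero =>
    intro ψ _
    refine ⟨G', 𝟙 G', hG, by rw [zero_smul, sub_zero, sub_self]; exact zero_mem _, fun x =>
      ⟨fun b => ⟨b, stalkLin_id x b⟩, fun b => ?_⟩⟩
    rw [stalkLin_id]
    simp only [Fin.sum_univ_zero]
    exact ⟨fun h => ⟨Fin.elim0, h.symm⟩, fun ⟨_, h⟩ => h.symm⟩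
  | succ k ih =>
    intro ψ hψ
    have hinit : ∀ x, m < δ x → Function.Injective
        fun v : Fin k → L.presheaf.stalk x => ∑ i, CycLib.stalkLin (ψ i.castSucc) x (v i) := fun x hx v w h => by
      have h' := hψ x hx (a₁ := Fin.snoc v 0) (a₂ := Fin.snoc w 0) (by
        simp only [Fin.sum_univ_castSucc, Fin.snoc_castSucc, Fin.snoc_last, map_zero, add_zero]
        exact h)
      funext i
      simpa using congrFun h' i.castSucc
    obtain ⟨Q', π', hQ', hmem, hπ⟩ := ih (fun i => ψ i.castSucc) hinit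
    let f := ψ (Fin.last k) ≫ π'
    have hinj : ∀ x, m < δ x → Function.Injective (CycLib.stalkLin f x) := fun x hx => by
      refine (injective_iff_map_eq_zero _).2 fun v hv => ?_
      rw [stalkLin_comp] at hv
      obtain ⟨w, hw⟩ := ((hπ x).2 _).1 hv
      have h' := hψ x hx (a₁ := Fin.snoc w (-v)) (a₂ := 0) (by
        simp only [Fin.sum_univ_castSucc, Fin.snoc_castSucc, Fin.snoc_last, map_neg, Pi.zero_apply, map_zero,
          add_zero, Finset.sum_const_zero]
        rw [hw, add_neg_cancel])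
      have := congrFun h' (Fin.last k)
      simpa using this
    have qQ := (QCoh.isCoh_cokernel hL.1.1 hQ'.1 f).1
    refine ⟨cokernel f, π' ≫ cokernel.π f, cohLe_of_epi (cokernel.π f) qQ hQ', ?_, fun x => ⟨fun q => ?_, fun b => ?_⟩⟩
    · have h4 := cls_four f hL hQ'
      have hK := cls_mem (n := n) (kernel_cohLe f hL hQ'.1 hinj)
      rw [show cls δ n G' - (k + 1) • cls δ n L - cls δ n (cokernel f) =
        (cls δ n G' - k • cls δ n L - cls δ n Q') - cls δ n (kernel f) by
        rw [succ_nsmul, ← sub_eq_zero]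
        linear_combination (norm := abel) h4]
      exact sub_mem hmem hK
    · obtain ⟨b, rfl⟩ := (coker_stalk f hL.1 hQ'.1 x).1 q
      obtain ⟨a, rfl⟩ := (hπ x).1 b
      exact ⟨a, stalkLin_comp π' _ x a⟩
    · rw [stalkLin_comp, (coker_stalk f hL.1 hQ'.1 x).2]
      constructor
      · rintro ⟨a, ha⟩
        rw [stalkLin_comp] at ha
        obtain ⟨v, hv⟩ := ((hπ x).2 (b - CycLib.stalkLin (ψ (Fin.last k)) x a)).1 (by rw [map_sub, ha, sub_self])
        refine ⟨Fin.snoc v a, ?_⟩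
        simp only [Fin.sum_univ_castSucc, Fin.snoc_castSucc, Fin.snoc_last]
        rw [hv, sub_add_cancel]
      · rintro ⟨v, rfl⟩
        refine ⟨v (Fin.last k), ?_⟩
        rw [stalkLin_comp, Fin.sum_univ_castSucc, map_add, ((hπ x).2 _).2 ⟨fun i => v i.castSucc, rfl⟩, zero_add]

/-- Classes of dimension `m` inside the classes of dimension `n`, modulo dimension `m - 1`. -/
theorem exists_incl (hmn : m ≤ n) :
    ∃ I : Cyc.K0CohQuot δ m (m - 1) →+ Cyc.K0CohQuot δ n (m - 1),
      ∀ F, Cyc.CohLe δ m F → I (Cyc.toK0CohQuot δ m (m - 1) F) = Cyc.toK0CohQuot δ n (m - 1) F := by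
  obtain ⟨f, hf⟩ := KZ.exists_liftSub (Cyc.CohLe δ m) (Cyc.toK0CohQuot δ n (m - 1)) fun S hS h₁ h₂ h₃ =>
    toK0_ses hS (cohLe_mono hmn h₁) (cohLe_mono hmn h₂) (cohLe_mono hmn h₃)
  refine ⟨QuotientAddGroup.lift _ f ?_, fun F hF => hf F hF⟩
  rw [AddSubgroup.closure_le]
  rintro c ⟨F, hF, rfl⟩
  rw [SetLike.mem_coe, AddMonoidHom.mem_ker, hf F (cohLe_mono (by omega) hF), toK0_eq_zero hF]

/-- Combinations of modules with balanced lengths. -/
theorem comb_mem (hd : Cyc.IsDimFun X δ) (hmn : m ≤ n) {P P' R R' : X.Modules} (hP : Cyc.CohLe δ m P)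
    (hP' : Cyc.CohLe δ m P') (hR : Cyc.CohLe δ m R) (hR' : Cyc.CohLe δ m R') (a : ℤ)
    (h : Cyc.sheafFun δ m P + Cyc.sheafFun δ m P' = a • Cyc.sheafFun δ m R + Cyc.sheafFun δ m R') :
    cls δ n P + cls δ n P' - (a • cls δ n R + cls δ n R') ∈ G δ n (m - 1) := by
  obtain ⟨ψ, hψ, hinj⟩ := exists_sheafFunHom hd m
  obtain ⟨I, hI⟩ := exists_incl (δ := δ) hmn
  have h0 : Cyc.toK0CohQuot δ m (m - 1) P + Cyc.toK0CohQuot δ m (m - 1) P' -
      (a • Cyc.toK0CohQuot δ m (m - 1) R + Cyc.toK0CohQuot δ m (m - 1) R') = 0 := by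
    refine hinj ?_
    rw [map_zero, map_sub, map_add, map_add, map_zsmul, hψ P hP, hψ P' hP', hψ R hR, hψ R' hR', h, sub_self]
  have h1 := congrArg I h0
  rw [map_zero, map_sub, map_add, map_add, map_zsmul, hI P hP, hI P' hP', hI R hR, hI R' hR'] at h1
  exact (QuotientAddGroup.eq_zero_iff _).1 h1

end Groth.Agent.Deform.RefChK
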