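import Groth.Agent.Deform.RefChK.DivCls
import Groth.Agent.Deform.RefChK.Coker
import Groth.Agent.Deform.RefChK.Bases
import Groth.Agent.IntThLib.DetLength
import Groth.Prelude.Def_TorSh

/-!
# The class of a torsion free module modulo codimension two
-/

set_option autoImplicit false
set_option linter.unusedSectionVars false
set_option linter.style.haveILetI false
set_option backward.isDefEq.respectTransparency false
set_option backward.isDefEq.respectTransparency.types false
set_option maxHeartbeats 2000000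

universe u

open CategoryTheory CategoryTheory.Limits AlgebraicGeometry TopologicalSpace Opposite

namespace Groth.Agent.Deform.RefChK

open Groth.Agent H9ChowK Ref1X

variable {X : Scheme.{u}} [IsIntegral X] [IsLocallyNoetherian X] {δ : X → ℤ} {n : ℤ}

theorem isDomain_stalk' (x : X) : IsDomain (X.presheaf.stalk x) :=
  (IsFractionRing.injective (X.presheaf.stalk x) X.functionField).isDomain

/-- Free stalks at the points of codimension at most one. -/
def LowFree (F : X.Modules) : Prop :=
  ∀ x : X, Order.coheight x ≤ 1 → Module.Free (X.presheaf.stalk x) (F.presheaf.stalk x)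

theorem lowFree_of_isTorsionFree (hX : Pi1.IsNormalScheme X) {F : X.Modules} (hF : Coh.IsCoh F)
    (hFtf : TorSh.IsTorsionFree F) : LowFree F := fun x hx => by
  haveI := hFtf x
  exact free_of_dim_le_one' hX hF (by rw [ringKrullDim_stalk_eq_coheight]; exact_mod_cast hx)

/-- Bases of sections near a point with free stalk. -/
theorem exists_bases_nhd {F : X.Modules} (hF : Coh.IsCoh F) {r : ℕ}
    (hrk : Module.finrank (X.presheaf.stalk (genericPoint X)) (F.presheaf.stalk (genericPoint X)) = r)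
    (x : X) (hx : Module.Free (X.presheaf.stalk x) (F.presheaf.stalk x)) :
    ∃ (U : X.Opens) (_ : x ∈ U) (b : Fin r → Γ(F, U)), ∀ (W : X.Opens) (h : W ≤ U),
      Function.Bijective fun c : Fin r → Γ(X, W) => ∑ i, c i • AModX.res F h (b i) := by
  haveI := hx
  obtain ⟨U, k, hxU, ⟨e⟩⟩ := QCoh.exists_free_nhd_of_free_stalk (QCoh.isCoh_iff_isFP.1 hF) x
  obtain ⟨b, hb⟩ := TopDiff.exists_bases e
  obtain ⟨B, -⟩ := exists_basis b (fun V _ h => hb V h) ((eta_le x).mem_open U.isOpen hxU)
  obtain rfl : k = r := by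
    haveI : Nontrivial (X.presheaf.stalk (genericPoint X)) := inferInstanceAs (Nontrivial X.functionField)
    rw [← hrk, Module.finrank_eq_card_basis B, Fintype.card_fin]
  exact ⟨U, hxU, b, hb⟩

/-- Restricting bases of sections. -/
theorem res_bases {F : X.Modules} {r : ℕ} {U U' : X.Opens} (hle : U' ≤ U) {b : Fin r → Γ(F, U)}
    (hb : ∀ (W : X.Opens) (h : W ≤ U), Function.Bijective fun c : Fin r → Γ(X, W) => ∑ i, c i • AModX.res F h (b i))
    (V : X.Opens) (_ : IsAffineOpen V) (h : V ≤ U') :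
    Function.Bijective fun c : Fin r → Γ(X, V) => ∑ i, c i • AModX.res F h (AModX.res F hle (b i)) :=
  (congrArg Function.Bijective (funext fun c => Finset.sum_congr rfl fun i _ =>
    congrArg (c i • ·) (AModX.res_res hle h (b i)))).mpr (hb V (h.trans hle))

/-- The rational section of the dual of the bidual. -/
theorem exists_bound (hX : Pi1.IsNormalScheme X) {G' : X.Modules} (hG : Coh.IsCoh G')
    (v : G'.presheaf.stalk (genericPoint X)) {y : X} (hy : Order.coheight y = 1) :
    ∃ k : ℤ, 0 ≤ k ∧ (v ∈ Set.range (gsp G' y) → k = 0) ∧ ∀ c : X.presheaf.stalk (genericPoint X), c ≠ 0 →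
      k ≤ Scheme.ord (X := X) c y → c • v ∈ Set.range (gsp G' y) := by
  have main : ∀ (a : X.presheaf.stalk y), a ≠ 0 → ∀ m : G'.presheaf.stalk y, spR X (eta_le y) a • v = gsp G' y m →
      ∀ c : X.presheaf.stalk (genericPoint X), c ≠ 0 →
        Scheme.ord (X := X) (spR X (eta_le y) a) y ≤ Scheme.ord (X := X) c y → c • v ∈ Set.range (gsp G' y) := by
    intro a ha m hm c hc hle
    let A : X.functionField := spR X (eta_le y) a
    let C : X.functionField := c
    have hA : A ≠ 0 := fun h0 => ha (spR_injective y (h0.trans (map_zero _).symm))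
    have hC : C ≠ 0 := hc
    have hq : C * A⁻¹ ≠ 0 := mul_ne_zero hC (inv_ne_zero hA)
    have hord := Scheme.ord_mul (X := X) (x := y) hq hA
    rw [mul_assoc, inv_mul_cancel₀ hA, mul_one] at hord
    obtain ⟨q, hqe⟩ := CDiv6.reg_of_ord_nonneg hX hy hq (by
      have : Scheme.ord A y ≤ Scheme.ord C y := hle
      omega)
    refine ⟨q • m, ?_⟩
    rw [show gsp G' y (q • m) = spR X (eta_le y) q • gsp G' y m from sp_smul (M := G') (eta_le y) q m, ← hm, ← mul_smul]
    refine congrArg (fun t => t • v) ?_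
    show (algebraMap (X.presheaf.stalk y) X.functionField q) * A = C
    rw [hqe, mul_assoc, inv_mul_cancel₀ hA, mul_one]
  by_cases hv : v ∈ Set.range (gsp G' y)
  · obtain ⟨m, hm⟩ := hv
    refine ⟨0, le_rfl, fun _ => rfl, fun c hc h0 => ?_⟩
    refine main 1 one_ne_zero m (by rw [map_one, one_smul, hm]) c hc ?_
    rw [map_one]
    exact (OD.ord_one y).le.trans h0
  · obtain ⟨a, ha, m, hm⟩ := exists_smul_eq_gsp hG.1 y v
    refine ⟨Scheme.ord (X := X) (spR X (eta_le y) a) y, ?_, fun h => absurd h hv, fun c hc hle => main a ha m hm c hc hle⟩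
    exact CDiv6.reg_ord_nonneg (fun h0 => ha (spR_injective y (h0.trans (map_zero _).symm))) ⟨a, rfl⟩

/-- The class of a torsion free module in codimension one is that of its determinant. -/
theorem sub_rank_smul_add_det_mem' (hX : Pi1.IsNormalScheme X) (hd : Cyc.IsDimFun X δ)
    (hη : δ (genericPoint X) = n) {F W : X.Modules} (hF : Coh.IsCoh F) (hfree : LowFree F) {r : ℕ}
    (hrk : Module.finrank (X.presheaf.stalk (genericPoint X)) (F.presheaf.stalk (genericPoint X)) = r)
    (hW : ExtPow.IsExtPow r F W) :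
    cls δ n F - (r : ℤ) • cls δ n (Coh.structureModule X) +
      (cls δ n (Coh.structureModule X) - cls δ n (RefHull.ddual W)) ∈ G δ n (n - 2) := by
  classical
  have hWc := RhoSh6.isCoh_of_isExtPow hF hW
  obtain ⟨φ, hφ⟩ := hW
  have hη0 : Order.coheight (genericPoint X) ≤ 1 := by
    refine le_trans (le_of_eq ?_) zero_le
    rw [Order.coheight_eq_zero]
    intro b _
    exact eta_le b
  -- the chosen basis at the generic point
  obtain ⟨U₁, hU₁, b₁, hb₁⟩ := exists_bases_nhd hF hrk (genericPoint X) (hfree _ hη0)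
  obtain ⟨_, ⟨U₀', hU₀', rfl⟩, hη₀, hle₀⟩ :=
    X.isBasis_affineOpens.exists_subset_of_mem_open (show genericPoint X ∈ U₁ from hU₁) U₁.isOpen
  let U₀ : X.affineOpens := ⟨U₀', hU₀'⟩
  let b₀ : Fin r → Γ(F, U₀.1) := fun i => AModX.res F hle₀ (b₁ i)
  let e : Fin r → F.presheaf.stalk (genericPoint X) := fun i => F.presheaf.germ U₀.1 _ hη₀ (b₀ i)
  -- the reflexive hull
  have hGc : Coh.IsCoh (RefHull.ddual F) := RefX.isCoh_dual (RefX.isCoh_dual hF)
  have hGr : RefHull.IsReflexive (RefHull.ddual F) := isReflexive_dual (RefX.isCoh_dual hF)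
  have hbid : ∀ x : X, Order.coheight x ≤ 1 → Function.Bijective (RefHull.stalkMapₗ (RefHull.bidualMap F) x) :=
    fun x hx => by
      haveI := hfree x hx
      haveI := QCoh.finite_stalk_of_isFT hF.1 hF.2 x
      exact (RefX.stalkMap_bidual_bijective_iff hF x).2
        (inferInstanceAs (Module.IsReflexive (X.presheaf.stalk x) (F.presheaf.stalk x)))
  have hcoh : ∀ x : X, n - 2 < δ x → Order.coheight x ≤ 1 := fun x hx => by
    by_cases hxe : genericPoint X = x
    · exact hxe ▸ hη0
    · have h1 := (hd _ _ (eta_le x) hxe).1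
      exact (coheight_eq_one hd hη (by omega)).le
  let ε : Fin r → (RefHull.ddual F).presheaf.stalk (genericPoint X) :=
    fun i => RefHull.stalkMapₗ (RefHull.bidualMap F) (genericPoint X) (e i)
  -- pole bounds
  choose kb hk0 hkz hk using fun (i : Fin r) (y : X) (hy : Order.coheight y = 1) => exists_bound hX hGc (ε i) hy
  let E : X → ℤ := fun y => if hy : Order.coheight y = 1 then -∑ i, kb i y hy else 0
  have hEfin : ∀ V : X.Opens, IsAffineOpen V → {y : X | y ∈ V ∧ E y ≠ 0}.Finite := fun V hV => by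
    refine (finite_codim_one_notMem hV (W := U₀.1) hη₀).subset ?_
    rintro y ⟨hyV, hy⟩
    simp only [E] at hy
    split_ifs at hy with h1
    · refine ⟨hyV, h1, fun hyU => hy ?_⟩
      rw [Finset.sum_eq_zero fun i _ => ?_, neg_zero]
      refine hkz i y h1 ⟨RefHull.stalkMapₗ (RefHull.bidualMap F) y (F.presheaf.germ U₀.1 y hyU (b₀ i)), ?_⟩
      rw [sp_stalkMap, sp_germ]
    · exact absurd rfl hy
  obtain ⟨L, hL, s, hs, hsE⟩ := OD.exists_ref1 (D := E) hEfin (fun y hy => dif_neg hy) hX
  obtain ⟨gL, hgL⟩ := exists_gen_eta hL.2.2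
  have hs' := one_dim hgL hs
  let eL := LinearEquiv.ofBijective (LinearMap.toSpanSingleton (X.presheaf.stalk (genericPoint X)) _ s) hs'
  let T : Fin r → (L.presheaf.stalk (genericPoint X) →ₗ[X.presheaf.stalk (genericPoint X)]
      (RefHull.ddual F).presheaf.stalk (genericPoint X)) := fun i =>
    (LinearMap.toSpanSingleton (X.presheaf.stalk (genericPoint X)) _ (ε i)).comp eL.symm.toLinearMap
  have hT : ∀ i (c : X.presheaf.stalk (genericPoint X)), T i (c • s) = c • ε i := fun i c => by
    show (eL.symm (c • s)) • ε i = c • ε i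
    rw [show c • s = eL c from rfl, LinearEquiv.symm_apply_apply]
  have hex : ∀ i, ∃ ψ : L ⟶ RefHull.ddual F, RefHull.stalkMapₗ ψ (genericPoint X) = T i := fun i =>
    exists_hom hX hGc hGr (T i) fun y hy m => by
      obtain ⟨c, hc⟩ := hs'.2 (gsp L y m)
      dsimp only at hc
      rw [← hc, hT]
      by_cases hc0 : c = 0
      · rw [hc0, zero_smul]; exact ⟨0, map_zero _⟩
      refine hk i y hy c hc0 ?_
      have h0 : 0 ≤ ordF L (c • s) y := (mem_range_gsp hX hL hy (smul_ne_zero' hs' hc0)).1 ⟨m, hc.symm⟩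
      rw [ordF_smul hX hL hy hs hc0, hsE y hy] at h0
      have h1 : kb i y hy ≤ ∑ j, kb j y hy :=
        Finset.single_le_sum (fun j _ => hk0 j y hy) (Finset.mem_univ i)
      simp only [E, dif_pos hy] at h0
      omega
  choose ψ hψ using hex
  -- generic values
  have hψη : ∀ i (c : X.presheaf.stalk (genericPoint X)),
      RefHull.stalkMapₗ (ψ i) (genericPoint X) (c • s) = c • ε i := fun i c => by rw [hψ, hT]
  obtain ⟨Bη, hBη⟩ := exists_basis b₀ (res_bases hle₀ hb₁) hη₀
  have hεind : ∀ c : Fin r → X.presheaf.stalk (genericPoint X), ∑ i, c i • ε i = 0 → c = 0 := fun c hc => by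
    have h1 : RefHull.stalkMapₗ (RefHull.bidualMap F) (genericPoint X) (∑ i, c i • Bη i) = 0 := by
      rw [map_sum]
      refine Eq.trans (Finset.sum_congr rfl fun i _ => ?_) hc
      rw [map_smul, hBη]
    funext i
    exact Fintype.linearIndependent_iff.1 Bη.linearIndependent c
      ((hbid _ hη0).1 (h1.trans (map_zero _).symm)) i
  have hψinj : ∀ x : X, n - 2 < δ x → Function.Injective
      fun v : Fin r → L.presheaf.stalk x => ∑ i, CycLib.stalkLin (ψ i) x (v i) := fun x _ v w hvw => by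
    choose c hc using fun i => hs'.2 (gsp L x (v i) - gsp L x (w i))
    dsimp only at hc hvw
    have h0 : gsp (RefHull.ddual F) x (∑ i, CycLib.stalkLin (ψ i) x (v i)) =
        gsp (RefHull.ddual F) x (∑ i, CycLib.stalkLin (ψ i) x (w i)) := congrArg _ hvw
    rw [map_sum, map_sum] at h0
    have h1 : ∑ i, c i • ε i = 0 := by
      refine Eq.trans (Finset.sum_congr rfl fun i _ => ?_)
        ((Finset.sum_sub_distrib _ _).trans (sub_eq_zero.2 h0))
      rw [← hψη i (c i), hc i, map_sub, stalkLin_eq, stalkLin_eq, sp_stalkMap, sp_stalkMap]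
    have hc0 := hεind c h1
    funext i
    refine gsp_injective hL.1 hL.2.1 x (sub_eq_zero.1 ?_)
    rw [← hc i, hc0, Pi.zero_apply, zero_smul]
  have cL := cohLe_top hd hη hL.1
  have cG := cohLe_top hd hη hGc
  obtain ⟨Q, π, hQ, mQ, hπ⟩ := exists_multiCoker cL cG ψ hψinj
  -- the determinant
  let w₀ : W.presheaf.stalk (genericPoint X) := W.presheaf.germ U₀.1 _ hη₀ (wedge φ U₀ b₀)
  have hwedge : ∀ (U V : X.affineOpens) (h : V.1 ≤ U.1) (v : Fin r → Γ(F, U.1)),
      AModX.res W h (wedge φ U v) = wedge φ V (fun i => AModX.res F h (v i)) := fun U V h v => hφ U V h v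
  have hgenW : ∀ (U : X.affineOpens) (b : Fin r → Γ(F, U.1)), (∀ V : X.Opens, IsAffineOpen V → ∀ h : V ≤ U.1,
      Function.Bijective fun c : Fin r → Γ(X, V) => ∑ i, c i • AModX.res F h (b i)) →
      ∀ (x : X) (hx : x ∈ U.1), IsGen (W.presheaf.germ U.1 x hx (wedge φ U b)) := fun U b hb x hx => by
    have hb1 : ∀ V : X.Opens, IsAffineOpen V → ∀ h : V ≤ U.1, Function.Bijective
        fun c : Fin 1 → Γ(X, V) => ∑ i, c i • AModX.res W h ((fun _ : Fin 1 => wedge φ U b) i) := by
      intro V hV h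
      obtain ⟨B, hB⟩ := TopDiff.basis_of_unique (R := Γ(X, V)) (fun i => AModX.res F h (b i)) (hb V hV h)
      have h2 := (φ ⟨V, hV⟩).symm.bijective.comp (TopDiff.bijective_ιMulti_basis B)
      refine (congrArg Function.Bijective (funext fun c => ?_)).mpr (h2.comp (Equiv.funUnique (Fin 1) Γ(X, V)).bijective)
      rw [Fin.sum_univ_one, hwedge U ⟨V, hV⟩ h b]
      show c 0 • (φ ⟨V, hV⟩).symm _ = (φ ⟨V, hV⟩).symm (c 0 • _)
      rw [map_smul, hB]
      rfl
    have h3 := (germ_sum_bijective (fun _ : Fin 1 => wedge φ U b) hb1 hx).comp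
      (Equiv.funUnique (Fin 1) (X.presheaf.stalk x)).symm.bijective
    refine (congrArg Function.Bijective (funext fun c => ?_)).mpr h3
    show c • _ = ∑ i : Fin 1, _
    rw [Fin.sum_univ_one]
    rfl
  have hb₀ : ∀ V : X.Opens, IsAffineOpen V → ∀ h : V ≤ U₀.1,
      Function.Bijective fun c : Fin r → Γ(X, V) => ∑ i, c i • AModX.res F h (b₀ i) := res_bases hle₀ hb₁
  have hw₀ : IsGen w₀ := hgenW U₀ b₀ hb₀ _ hη₀
  have hbW₀ := bidual_bijective_of_gen hWc hw₀
  let w := RefHull.stalkMapₗ (RefHull.bidualMap W) (genericPoint X) w₀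
  have hwgen : IsGen w := hw₀.map _ hbW₀
  have hWW : RefHull.IsRef1 (RefHull.ddual W) := by
    have hR := RefX.isCoh_dual (RefX.isCoh_dual hWc)
    obtain ⟨U, hU, f, hf, -⟩ := exists_frame_of_gen hR hwgen
    exact ⟨hR, isReflexive_dual (RefX.isCoh_dual hWc), genInvertible_of_frame hU hf⟩
  have hw : w ≠ 0 := fun h0 => one_ne_zero (α := X.functionField) (hwgen.1 (by
    show (1 : X.presheaf.stalk (genericPoint X)) • w = (0 : X.presheaf.stalk (genericPoint X)) • w
    rw [h0, smul_zero, smul_zero]))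
  -- lengths of the quotient
  have hQfun : ∀ x, δ x = n - 1 → Cyc.sheafFun δ (n - 1) Q x = ordF (RefHull.ddual W) w x - (r : ℤ) * E x := by
    intro x hx
    have hx1 := coheight_eq_one hd hη hx
    haveI := isDomain_stalk' x
    haveI : IsNoetherianRing (X.presheaf.stalk x) := inferInstance
    haveI : Ring.KrullDimLE 1 (X.presheaf.stalk x) := krullDimLE_of_coheight_le hx1.le
    obtain ⟨U, hxU, b, hb⟩ := exists_bases_nhd hF hrk x (hfree x hx1.le)
    obtain ⟨_, ⟨Ua, hUa, rfl⟩, hxUa, hUle⟩ := X.isBasis_affineOpens.exists_subset_of_mem_open (show x ∈ U from hxU) U.isOpen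
    let U' : X.affineOpens := ⟨Ua, hUa⟩
    let bx : Fin r → Γ(F, U'.1) := fun i => AModX.res F hUle (b i)
    have hbx : ∀ V : X.Opens, IsAffineOpen V → ∀ h : V ≤ U'.1,
        Function.Bijective fun c : Fin r → Γ(X, V) => ∑ i, c i • AModX.res F h (bx i) := res_bases hUle hb
    have hηx : genericPoint X ∈ U'.1 := eta_mem hxUa
    obtain ⟨Bx, hBx⟩ := exists_basis bx hbx hxUa
    obtain ⟨Bg, hBg⟩ := exists_basis bx hbx hηx
    obtain ⟨gl, c₀, hgl, hsc, hord'⟩ := exists_coord hX hL hx1 s
    obtain ⟨hc₀, hordL⟩ := hord' hs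
    let bidx := LinearEquiv.ofBijective (RefHull.stalkMapₗ (RefHull.bidualMap F) x) (hbid x hx1.le)
    let A : Matrix (Fin r) (Fin r) (X.presheaf.stalk x) :=
      fun i j => Bx.repr (bidx.symm (CycLib.stalkLin (ψ j) x gl)) i
    have hA : ∀ j, CycLib.stalkLin (ψ j) x gl = ∑ i, A i j • bidx (Bx i) := fun j => by
      conv_lhs => rw [← bidx.apply_symm_apply (CycLib.stalkLin (ψ j) x gl), ← Bx.sum_repr (bidx.symm _)]
      rw [map_sum]
      exact Finset.sum_congr rfl fun i _ => map_smul bidx _ _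
    obtain ⟨_, ⟨Va, hVa, rfl⟩, hηV, hVle⟩ := X.isBasis_affineOpens.exists_subset_of_mem_open
      (show genericPoint X ∈ U'.1 ⊓ U₀.1 from ⟨hηx, hη₀⟩) (U'.1 ⊓ U₀.1).isOpen
    let V : X.affineOpens := ⟨Va, hVa⟩
    have hVU : V.1 ≤ U'.1 := le_trans hVle inf_le_left
    have hV0 : V.1 ≤ U₀.1 := le_trans hVle inf_le_right
    obtain ⟨BV, hBV⟩ := TopDiff.basis_of_unique (R := Γ(X, V.1)) (fun i => AModX.res F hVU (bx i)) (hbx V.1 V.2 hVU)
    let d : Matrix (Fin r) (Fin r) Γ(X, V.1) := BV.toMatrix fun j => AModX.res F hV0 (b₀ j)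
    let g : Γ(X, V.1) →+* X.presheaf.stalk (genericPoint X) := (X.presheaf.germ V.1 _ hηV).hom
    have hd1 : ∀ j, e j = ∑ i, g (d i j) • Bg i := fun j => by
      have h1 := congrArg (F.presheaf.germ V.1 (genericPoint X) hηV) (BV.sum_toMatrix_smul_self (fun j => AModX.res F hV0 (b₀ j)) (j := j))
      rw [map_sum, RefX.germ_res] at h1
      refine h1.symm.trans (Finset.sum_congr rfl fun i _ => ?_)
      refine (QCoh.germ_smul' F hηV (d i j) (BV i)).trans ?_
      refine congrArg (g (d i j) • ·) ?_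
      rw [hBg, show BV i = AModX.res F hVU (bx i) from congrFun hBV i, RefX.germ_res]
    have hgd : ∀ i j, g (d i j) = c₀ * spR X (eta_le x) (A i j) := by
      intro i j
      have h1 : RefHull.stalkMapₗ (RefHull.bidualMap F) (genericPoint X) (e j) =
          RefHull.stalkMapₗ (RefHull.bidualMap F) (genericPoint X) (∑ i, (c₀ * spR X (eta_le x) (A i j)) • Bg i) := by
        show ε j = _
        rw [← one_smul (X.presheaf.stalk (genericPoint X)) (ε j), ← hψη j 1, one_smul, hsc, map_smul, ← sp_stalkMap,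
          ← stalkLin_eq, hA j, map_sum, map_sum, Finset.smul_sum]
        refine Finset.sum_congr rfl fun i _ => ?_
        rw [show gsp (RefHull.ddual F) x (A i j • bidx (Bx i)) = spR X (eta_le x) (A i j) •
          gsp (RefHull.ddual F) x (bidx (Bx i)) from sp_smul (M := RefHull.ddual F) (eta_le x) _ _, map_smul, mul_smul]
        refine congrArg (fun t => c₀ • spR X (eta_le x) (A i j) • t) ?_
        show gsp (RefHull.ddual F) x (RefHull.stalkMapₗ (RefHull.bidualMap F) x (Bx i)) = _
        rw [sp_stalkMap, hBx, hBg, sp_germ]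
      have h2 := (hbid _ hη0).1 h1
      rw [hd1 j] at h2
      exact congrFun (Fintype.linearIndependent_iff.1 Bg.linearIndependent
        (fun i => g (d i j) - c₀ * spR X (eta_le x) (A i j)) (by
          simp only [sub_smul, Finset.sum_sub_distrib]; exact sub_eq_zero.2 h2) |> funext) i |> sub_eq_zero.1
    have hdet : g d.det = c₀ ^ r * spR X (eta_le x) A.det := by
      rw [RingHom.map_det, RingHom.map_det, show g.mapMatrix d = c₀ • (spR X (eta_le x)).mapMatrix A from
        Matrix.ext fun i j => hgd i j, Matrix.det_smul, Fintype.card_fin]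
    have hp := hgenW U' bx hbx x hxUa
    let p := RefHull.stalkMapₗ (RefHull.bidualMap W) x (W.presheaf.germ U'.1 x hxUa (wedge φ U' bx))
    have hpgen : IsGen p := hp.map _ (bidual_bijective_of_gen hWc hp)
    have hwp : w = (c₀ ^ r * spR X (eta_le x) A.det) • gsp (RefHull.ddual W) x p := by
      rw [← hdet]
      show RefHull.stalkMapₗ (RefHull.bidualMap W) (genericPoint X) w₀ = _
      rw [show gsp (RefHull.ddual W) x p = RefHull.stalkMapₗ (RefHull.bidualMap W) (genericPoint X)
        (W.presheaf.germ U'.1 _ hηx (wedge φ U' bx)) from (sp_stalkMap _ _ _).trans (congrArg _ (sp_germ _ _ _)),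
        ← map_smul]
      refine congrArg _ ?_
      show W.presheaf.germ U₀.1 _ hη₀ (wedge φ U₀ b₀) = _
      rw [← RefX.germ_res W hV0 hηV, hwedge U₀ V hV0, wedge_eq φ V BV, Module.Basis.det_apply,
        ← RefX.germ_res W hVU hηV (wedge φ U' bx), hwedge U' V hVU bx]
      refine (QCoh.germ_smul' W hηV _ _).trans ?_
      refine congrArg (fun t => g d.det • W.presheaf.germ V.1 _ hηV t) ?_
      exact congrArg (wedge φ V) hBV
    have hdetne : A.det ≠ 0 := fun h0 => hw (by rw [hwp, h0, map_zero, mul_zero, zero_smul])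
    have hAne : spR X (eta_le x) A.det ≠ 0 := fun h0 => hdetne (spR_injective x (h0.trans (map_zero _).symm))
    have hordW : ordF (RefHull.ddual W) w x =
        (r : ℤ) * E x + ((Ring.ord (X.presheaf.stalk x) A.det).toNat : ℤ) := by
      have hc0K : (c₀ : X.functionField) ≠ 0 := hc₀
      rw [ordF_eq hWW.1 hx1 hpgen (mul_ne_zero (M₀ := X.functionField) (pow_ne_zero r hc0K) hAne) hwp]
      have e1 : Scheme.ord (X := X) (c₀ ^ r * spR X (eta_le x) A.det) x =
          Scheme.ord ((c₀ : X.functionField) ^ r) x + Scheme.ord (X := X) (spR X (eta_le x) A.det) x :=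
        Scheme.ord_mul (pow_ne_zero r hc0K) hAne
      rw [e1, OD.ord_pow hc0K, spR_eq_algebraMap, ord_algebraMap hx1 hdetne, ← hsE x hx1, hordL]
    let P : (Fin r → X.presheaf.stalk x) →ₗ[X.presheaf.stalk x] Q.presheaf.stalk x :=
      (CycLib.stalkLin π x).comp ((Bx.equivFun.symm.trans bidx).toLinearMap)
    have hP : Function.Surjective P := fun q => by
      obtain ⟨y, rfl⟩ := (hπ x).1 q
      exact ⟨(Bx.equivFun.symm.trans bidx).symm y,
        congrArg (CycLib.stalkLin π x) ((Bx.equivFun.symm.trans bidx).apply_symm_apply y)⟩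
    have hAv : ∀ v : Fin r → X.presheaf.stalk x,
        (Bx.equivFun.symm.trans bidx) (A.mulVecLin v) = ∑ j, CycLib.stalkLin (ψ j) x (v j • gl) := fun v => by
      rw [LinearEquiv.trans_apply, Module.Basis.equivFun_symm_apply, map_sum]
      simp only [map_smul, Matrix.mulVecLin_apply, Matrix.mulVec, dotProduct, Finset.sum_smul, hA, Finset.smul_sum,
        smul_smul]
      rw [Finset.sum_comm]
      simp only [mul_comm, map_sum, map_smul]
    have hker : LinearMap.ker P = LinearMap.range A.mulVecLin := by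
      ext u
      rw [LinearMap.mem_ker, LinearMap.mem_range]
      refine ((hπ x).2 ((Bx.equivFun.symm.trans bidx) u)).trans ⟨?_, ?_⟩
      · rintro ⟨v, hv⟩
        choose c hc using fun j => hgl.2 (v j)
        refine ⟨c, (Bx.equivFun.symm.trans bidx).injective ?_⟩
        rw [hAv, ← hv]
        exact Finset.sum_congr rfl fun j _ => congrArg _ (hc j)
      · rintro ⟨v, rfl⟩
        exact ⟨fun j => v j • gl, (hAv v).symm⟩
    have hlen := ((Submodule.quotEquivOfEq _ _ hker.symm).trans (P.quotKerEquivOfSurjective hP)).length_eq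
    rw [IntThLib.length_coker_domain _ A hdetne] at hlen
    rw [Cyc.sheafFun, if_pos hx, ← hlen, hordW]
    ring
  have hQ1 : Cyc.CohLe δ (n - 1) Q := ⟨hQ.1, fun x hx => by
    have := hQ.2 x hx
    by_contra hlt
    have hxe : genericPoint X = x := by_contra fun hne => by
      have := (hd _ _ (eta_le x) hne).1
      omega
    subst hxe
    refine not_subsingleton_iff_nontrivial.2 hx (subsingleton_of_forall_eq 0 fun q => ?_)
    obtain ⟨y, rfl⟩ := (hπ _).1 q
    obtain ⟨z, rfl⟩ := (hbid _ hη0).2 y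
    refine ((hπ _).2 _).2 ⟨fun i => Bη.repr z i • s, ?_⟩
    conv_rhs => rw [← Bη.sum_repr z, map_sum]
    refine Finset.sum_congr rfl fun i _ => ?_
    rw [stalkLin_eq, hψη, map_smul, hBη]⟩
  -- assembling
  let D : X → ℤ := fun x => if Order.coheight x = 1 then max (ordF (RefHull.ddual W) w x) 0 else 0
  have hDfin : ∀ V : X.Opens, IsAffineOpen V → {y : X | y ∈ V ∧ D y ≠ 0}.Finite := fun V hV => by
    refine (finite_ordF_ne_zero hX hWW hw hV).subset ?_
    rintro y ⟨hyV, hy⟩
    simp only [D] at hy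
    split_ifs at hy with h1
    · exact ⟨hyV, h1, fun h => hy (by rw [h]; rfl)⟩
    · exact absurd rfl hy
  obtain ⟨B, hB, bb, hbb, hbD⟩ := OD.exists_ref1 (D := D) hDfin (fun y hy => if_neg hy) hX
  have hu0 : RefX.unitStalk (genericPoint X) 1 ≠ 0 := fun h0 =>
    one_ne_zero (α := X.functionField) ((RefX.unitStalk (genericPoint X)).injective (h0.trans (map_zero _).symm))
  have hE0 : ∀ x : X, Order.coheight x = 1 → E x ≤ 0 := fun x hx => by
    simp only [E, dif_pos hx]
    exact neg_nonpos.2 (Finset.sum_nonneg fun i _ => hk0 i x hx)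
  have hDx : ∀ x : X, Order.coheight x = 1 → ordF B bb x = max (ordF (RefHull.ddual W) w x) 0 :=
    fun x hx => (hbD x hx).trans (if_pos hx)
  obtain ⟨QL, hQL, mL, lL⟩ := exists_map hX hd hη hL isRef1_unit hs hu0 fun x hx => by
    rw [ordF_unit hx, hsE x hx]; exact hE0 x hx
  obtain ⟨Q0, hQ0, m0, l0⟩ := exists_map hX hd hη isRef1_unit hB hu0 hbb fun x hx => by
    rw [hDx x hx, ordF_unit hx]; omega
  obtain ⟨QW, hQW, mW, lW⟩ := exists_map hX hd hη hWW hB hw hbb fun x hx => by rw [hDx x hx]; omega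
  have hfun : Cyc.sheafFun δ (n - 1) Q + Cyc.sheafFun δ (n - 1) QW =
      (r : ℤ) • Cyc.sheafFun δ (n - 1) QL + Cyc.sheafFun δ (n - 1) Q0 := by
    funext x
    simp only [Pi.add_apply, Pi.smul_apply, smul_eq_mul]
    by_cases hx : δ x = n - 1
    · have hx1 := coheight_eq_one hd hη hx
      rw [hQfun x hx, lW x hx, lL x hx, l0 x hx, ordF_unit hx1, hsE x hx1]
      ring
    · simp only [Cyc.sheafFun, if_neg hx, mul_zero]
  have m4 := comb_mem (n := n) hd (by omega) hQ1 hQW hQL hQ0 (r : ℤ) hfun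
  rw [show n - 1 - 1 = n - 2 by ring] at m4
  have m5 := sub_mem_of_map (m := n - 2) (RefHull.bidualMap F) (cohLe_top hd hη hF) cG fun x hx => by
    rw [show (CycLib.stalkLin (RefHull.bidualMap F) x : _ → _) = RefHull.stalkMapₗ (RefHull.bidualMap F) x from
      funext fun t => stalkLin_eq _ x t]
    exact hbid x (hcoh x hx)
  have := add_mem (sub_mem (add_mem (sub_mem (add_mem mQ m4) m5) mW) m0) (neg_mem (zsmul_mem mL (r : ℤ)))
  refine (eq_iff_iff.1 (congrArg (· ∈ G δ n (n - 2)) ?_)).1 this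
  rw [← Nat.cast_smul_eq_nsmul ℤ, smul_sub, smul_sub]
  abel

theorem sub_rank_smul_add_det_mem (hX : Pi1.IsNormalScheme X) (hd : Cyc.IsDimFun X δ)
    (hη : δ (genericPoint X) = n) {F W : X.Modules} (hF : Coh.IsCoh F) (hFtf : TorSh.IsTorsionFree F) {r : ℕ}
    (hrk : Module.finrank (X.presheaf.stalk (genericPoint X)) (F.presheaf.stalk (genericPoint X)) = r)
    (hW : ExtPow.IsExtPow r F W) :
    cls δ n F - (r : ℤ) • cls δ n (Coh.structureModule X) +
      (cls δ n (Coh.structureModule X) - cls δ n (RefHull.ddual W)) ∈ G δ n (n - 2) :=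
  sub_rank_smul_add_det_mem' hX hd hη hF (lowFree_of_isTorsionFree hX hF hFtf) hrk hW

end Groth.Agent.Deform.RefChK
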