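import Groth.Agent.Deform.RefChK.Powers
import Groth.Agent.PerfPic.FrobPull
import Groth.Agent.QCoh.RpushStalk

/-!
# Reflexive Frobenius pullbacks of rank one reflexive modules
-/

set_option autoImplicit false
set_option linter.unusedSectionVars false
set_option linter.style.haveILetI false
set_option backward.isDefEq.respectTransparency false
set_option backward.isDefEq.respectTransparency.types false
set_option maxHeartbeats 1000000

universe u

open CategoryTheory CategoryTheory.Limits AlgebraicGeometry TopologicalSpace Opposite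

namespace Groth.Agent.Deform.RefChK

open Groth.Agent Ref1X

variable {X : Scheme.{u}} [IsIntegral X] [IsLocallyNoetherian X]

theorem isRef1_of_iso {L M : X.Modules} (e : L ≅ M) (hL : RefHull.IsRef1 L) : RefHull.IsRef1 M := by
  have hq : Coh.IsQCoh M := (SheafOfModules.isQuasicoherent X.ringCatSheaf).prop_of_iso e hL.1.1
  have hM : Coh.IsCoh M := QCoh.isCoh_of_epi e.hom hL.1 hq
  obtain ⟨g, hg⟩ := exists_gen_eta hL.2.2
  obtain ⟨U, hU, f, hf, -⟩ := exists_frame_of_gen hM (hg.map e.hom (stalkMap_bijective e _))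
  refine ⟨hM, (RefX.isReflexive_iff hM).2 fun x => ?_, genInvertible_of_frame hU hf⟩
  haveI : Module.IsReflexive (X.presheaf.stalk x) (L.presheaf.stalk x) := (RefX.isReflexive_iff hL.1).1 hL.2.1 x
  exact Module.equiv (LinearEquiv.ofBijective (RefHull.stalkMapₗ e.hom x) (stalkMap_bijective e x))

variable (p : ℕ) [Fact p.Prime] [FrobSch.IsCharP X p]

/-- The Frobenius pullback multiplies divisors by `p`. -/
theorem exists_ord_frob (hX : Pi1.IsNormalScheme X) {L : X.Modules} (hL : RefHull.IsRef1 L)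
    {s : L.presheaf.stalk (genericPoint X)} (hs : s ≠ 0) :
    RefHull.IsRef1 (RefHull.ddual ((Scheme.Modules.pullback (FrobSch.frob X p)).obj L)) ∧
      ∃ s' : (RefHull.ddual ((Scheme.Modules.pullback (FrobSch.frob X p)).obj L)).presheaf.stalk (genericPoint X),
        s' ≠ 0 ∧ ∀ x : X, Order.coheight x = 1 →
          ordF (RefHull.ddual ((Scheme.Modules.pullback (FrobSch.frob X p)).obj L)) s' x = (p : ℤ) * ordF L s x := by
  let F' := (Scheme.Modules.pullback (FrobSch.frob X p)).obj L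
  have hF' : Coh.IsCoh F' := ⟨QCoh.isQCoh_pullback _ hL.1.1, QCoh.isFT_pullback _ hL.1.1 hL.1.2⟩
  have hR : Coh.IsCoh (RefHull.ddual F') := RefX.isCoh_dual (RefX.isCoh_dual hF')
  obtain ⟨U₀, hη₀, e₀, he₀⟩ := exists_frame_eta hL.2.2
  have hgen₀ : IsGen (M := F') (F'.presheaf.germ U₀ _ hη₀ (PerfPic.fpull p e₀)) :=
    IsGen.of_frame (PerfPic.isFrame_fpull p he₀) hη₀
  have hb₀ := hgen₀.map _ (bidual_bijective_of_gen hF' hgen₀)
  have hRef : RefHull.IsRef1 (RefHull.ddual F') := by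
    obtain ⟨U, hU, f, hf, -⟩ := exists_frame_of_gen hR hb₀
    exact ⟨hR, isReflexive_dual (RefX.isCoh_dual hF'), genInvertible_of_frame hU hf⟩
  obtain ⟨φ₀, hφ₀⟩ := (IsGen.of_frame he₀ hη₀).2 s
  dsimp only at hφ₀
  have hφ₀' : φ₀ ≠ 0 := fun h0 => hs (by rw [← hφ₀, h0, zero_smul])
  refine ⟨hRef, φ₀ ^ p • RefHull.stalkMapₗ (RefHull.bidualMap F') (genericPoint X)
    (F'.presheaf.germ U₀ _ hη₀ (PerfPic.fpull p e₀)), smul_ne_zero' hb₀ (pow_ne_zero (M₀ := X.functionField) p hφ₀'),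
    fun x hx => ?_⟩
  obtain ⟨t, φ, ht, hst, hord'⟩ := exists_coord hX hL hx s
  obtain ⟨hφ, hord⟩ := hord' hs
  obtain ⟨U, hxU, e, he, hte⟩ := exists_frame_of_gen hL.1 ht
  have hW : genericPoint X ∈ U ⊓ U₀ := ⟨eta_mem hxU, hη₀⟩
  obtain ⟨c, hc⟩ := he.exists_coord (inf_le_left : U ⊓ U₀ ≤ U) (AModX.res L (inf_le_right : U ⊓ U₀ ≤ U₀) e₀)
  let cη : X.presheaf.stalk (genericPoint X) := X.presheaf.germ (U ⊓ U₀) _ hW c
  have h₀ : L.presheaf.germ U₀ _ hη₀ e₀ = cη • L.presheaf.germ U _ (eta_mem hxU) e := by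
    rw [← RefX.germ_res L (inf_le_right : U ⊓ U₀ ≤ U₀) hW e₀, hc, QCoh.germ_smul', RefX.germ_res]
  have hφeq : φ = φ₀ * cη := by
    refine (IsGen.of_frame he (eta_mem hxU)).1 ?_
    show φ • _ = (φ₀ * cη) • _
    rw [mul_smul, ← h₀, hφ₀, hst, ← hte, sp_germ]
  have hgx : IsGen (M := F') (F'.presheaf.germ U x hxU (PerfPic.fpull p e)) :=
    IsGen.of_frame (PerfPic.isFrame_fpull p he) hxU
  have hgR := hgx.map _ (bidual_bijective_of_gen hF' hgx)
  have key : φ₀ ^ p • RefHull.stalkMapₗ (RefHull.bidualMap F') (genericPoint X)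
      (F'.presheaf.germ U₀ _ hη₀ (PerfPic.fpull p e₀)) = φ ^ p • gsp (RefHull.ddual F') x
        (RefHull.stalkMapₗ (RefHull.bidualMap F') x (F'.presheaf.germ U x hxU (PerfPic.fpull p e))) := by
    rw [sp_stalkMap, sp_germ, hφeq, mul_pow, mul_smul]
    refine congrArg (φ₀ ^ p • ·) ?_
    rw [← map_smul]
    refine congrArg _ ?_
    show F'.presheaf.germ U₀ _ hη₀ (PerfPic.fpull p e₀) = cη ^ p • F'.presheaf.germ U _ (eta_mem hxU) (PerfPic.fpull p e)
    rw [← RefX.germ_res F' (inf_le_right : U ⊓ U₀ ≤ U₀) hW (PerfPic.fpull p e₀), PerfPic.res_fpull, hc,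
      PerfPic.fpull_smul, ← PerfPic.res_fpull, QCoh.germ_smul', RefX.germ_res, map_pow]
  rw [ordF_eq hR hx hgR (pow_ne_zero (M₀ := X.functionField) p hφ) key, hord]
  exact OD.ord_pow (X := X) (φ := (φ : X.functionField)) hφ x p

/-- Iterated reflexive Frobenius pullbacks are reflexive powers. -/
theorem frob_iterate_iso (hX : Pi1.IsNormalScheme X) {L : X.Modules} (hL : RefHull.IsRef1 L) (G : ℕ → X.Modules)
    (hG0 : G 0 = L)
    (hG : ∀ m, Nonempty (G (m + 1) ≅ RefHull.ddual ((Scheme.Modules.pullback (FrobSch.frob X p)).obj (G m)))) :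
    ∀ m, Nonempty (G m ≅ RefPow.refPow L (p ^ m)) := by
  obtain ⟨s, hs⟩ := exists_ne_zero hL.2.2
  have key : ∀ m, RefHull.IsRef1 (G m) ∧ ∃ t : (G m).presheaf.stalk (genericPoint X), t ≠ 0 ∧
      ∀ x : X, Order.coheight x = 1 → ordF (G m) t x = ((p ^ m : ℕ) : ℤ) * ordF L s x := by
    intro m
    induction m with
    | zero => rw [hG0]; exact ⟨hL, s, hs, fun x _ => by simp⟩
    | succ m ih =>
      obtain ⟨hm, t, ht, hord⟩ := ih
      obtain ⟨hR, t', ht', hord'⟩ := exists_ord_frob p hX hm ht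
      obtain ⟨e⟩ := hG m
      refine ⟨isRef1_of_iso e.symm hR, RefHull.stalkMapₗ e.symm.hom (genericPoint X) t', ?_, fun x hx => ?_⟩
      · exact fun h0 => ht' ((stalkMap_bijective e.symm _).1 (h0.trans (map_zero _).symm))
      · rw [ordF_map hX hR (isRef1_of_iso e.symm hR) e.symm hx ht', hord' x hx, hord x hx]
        push_cast
        ring
  intro m
  obtain ⟨hm, t, ht, hord⟩ := key m
  obtain ⟨w, hw, hw'⟩ := exists_ord_refPow hX hL hs (p ^ m)
  exact iso_of_ord hX hm (isRef1_refPow hL _) ht hw fun x hx => by rw [hord x hx, hw' x hx]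

end Groth.Agent.Deform.RefChK
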