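import Groth.Agent.Deform.RefChK.DetCls
import Groth.Agent.Deform.RefChK.Frob
import Groth.Agent.PinchHom.Frame
import Groth.Agent.ExtPowSh.Iso

/-!
# Determinants of reflexive Frobenius pullbacks
-/

set_option autoImplicit false
set_option linter.unusedSectionVars false
set_option linter.style.haveILetI false
set_option backward.isDefEq.respectTransparency false
set_option backward.isDefEq.respectTransparency.types false
set_option maxHeartbeats 1000000

universe u

open CategoryTheory CategoryTheory.Limits AlgebraicGeometry TopologicalSpace Opposite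

namespace Groth.Agent.Deform.RefChK

open Groth.Agent H9ChowK Ref1X

variable {X : Scheme.{u}} [IsIntegral X] [IsLocallyNoetherian X]

/-- Free in codimension one, of rank `r`. -/
structure LowBundle (F : X.Modules) (r : ℕ) : Prop where
  coh : Coh.IsCoh F
  free : LowFree F
  rank : Module.finrank (X.presheaf.stalk (genericPoint X)) (F.presheaf.stalk (genericPoint X)) = r

theorem coheight_eta_le : Order.coheight (genericPoint X) ≤ 1 := by
  refine le_trans (le_of_eq ?_) zero_le
  rw [Order.coheight_eq_zero]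
  intro b _
  exact eta_le b

theorem LowBundle.of_reflexive (hX : Pi1.IsNormalScheme X) {F : X.Modules} (hF : Coh.IsCoh F)
    (hr : RefHull.IsReflexive F) {r : ℕ}
    (hrk : Module.finrank (X.presheaf.stalk (genericPoint X)) (F.presheaf.stalk (genericPoint X)) = r) :
    LowBundle F r := by
  refine ⟨hF, lowFree_of_isTorsionFree hX hF fun x => Module.isTorsionFree_iff_smul_eq_zero.2 fun c v h => ?_, hrk⟩
  by_cases hc : c = 0
  · exact Or.inl hc
  refine Or.inr (gsp_injective hF hr x ?_)
  rw [map_zero]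
  have h1 := congrArg (gsp F x) h
  rw [map_zero, show gsp F x (c • v) = spR X (eta_le x) c • gsp F x v from sp_smul (M := F) (eta_le x) c v] at h1
  have hu : IsUnit (spR X (eta_le x) c) := isUnit_iff_ne_zero (G₀ := X.functionField).2 fun h0 =>
    hc (spR_injective x (h0.trans (map_zero _).symm))
  exact (hu.smul_eq_zero).1 h1

theorem LowBundle.of_iso {F F' : X.Modules} {r : ℕ} (h : LowBundle F r) (e : F ≅ F') : LowBundle F' r := by
  let l := fun x => LinearEquiv.ofBijective (RefHull.stalkMapₗ e.hom x) (stalkMap_bijective e x)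
  refine ⟨QCoh.isCoh_of_epi e.hom h.coh ((SheafOfModules.isQuasicoherent X.ringCatSheaf).prop_of_iso e h.coh.1),
    fun x hx => ?_, (l _).finrank_eq.symm.trans h.rank⟩
  haveI := h.free x hx
  exact Module.Free.of_equiv (l x)

theorem LowBundle.bidual_bijective {F : X.Modules} {r : ℕ} (h : LowBundle F r) {x : X} (hx : Order.coheight x ≤ 1) :
    Function.Bijective (RefHull.stalkMapₗ (RefHull.bidualMap F) x) := by
  haveI := h.free x hx
  haveI := QCoh.finite_stalk_of_isFT h.coh.1 h.coh.2 x
  exact (RefX.stalkMap_bidual_bijective_iff h.coh x).2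
    (inferInstanceAs (Module.IsReflexive (X.presheaf.stalk x) (F.presheaf.stalk x)))

theorem LowBundle.ddual {F : X.Modules} {r : ℕ} (h : LowBundle F r) : LowBundle (RefHull.ddual F) r := by
  refine ⟨RefX.isCoh_dual (RefX.isCoh_dual h.coh), fun x hx => ?_,
    (LinearEquiv.ofBijective _ (h.bidual_bijective coheight_eta_le)).finrank_eq.symm.trans h.rank⟩
  haveI := h.free x hx
  exact Module.Free.of_equiv (LinearEquiv.ofBijective _ (h.bidual_bijective hx))

variable (p : ℕ) [Fact p.Prime] [FrobSch.IsCharP X p]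

theorem LowBundle.frob {F : X.Modules} {r : ℕ} (h : LowBundle F r) :
    LowBundle ((Scheme.Modules.pullback (FrobSch.frob X p)).obj F) r := by
  have key : ∀ x : X, Order.coheight x ≤ 1 → ∃ B : Module.Basis (Fin r) (X.presheaf.stalk x)
      (((Scheme.Modules.pullback (FrobSch.frob X p)).obj F).presheaf.stalk x), True := fun x hx => by
    obtain ⟨U, hxU, b, hb⟩ := exists_bases_nhd h.coh h.rank x (h.free x hx)
    have hle : U ≤ (FrobSch.frob X p) ⁻¹ᵁ U := fun y hy => hy
    have hp := PinchHom.isNFrame_pullSec (FrobSch.frob X p) h.coh.1 (e := b) hb hle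
    obtain ⟨B, -⟩ := exists_basis _ (fun V _ hV => hp V hV) hxU
    exact ⟨B, trivial⟩
  refine ⟨⟨QCoh.isQCoh_pullback _ h.coh.1, QCoh.isFT_pullback _ h.coh.1 h.coh.2⟩, fun x hx => ?_, ?_⟩
  · obtain ⟨B, -⟩ := key x hx
    exact Module.Free.of_basis B
  · obtain ⟨B, -⟩ := key _ coheight_eta_le
    haveI : Nontrivial (X.presheaf.stalk (genericPoint X)) := inferInstanceAs (Nontrivial X.functionField)
    rw [Module.finrank_eq_card_basis B, Fintype.card_fin]

/-- Generators of the top exterior power at the points of codimension at most one. -/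
theorem LowBundle.exists_gen_extPow {F W : X.Modules} {r : ℕ} (h : LowBundle F r) (hW : ExtPow.IsExtPow r F W)
    {x : X} (hx : Order.coheight x ≤ 1) : ∃ t : W.presheaf.stalk x, IsGen t := by
  obtain ⟨φ, hφ⟩ := hW
  obtain ⟨U₁, hU₁, b₁, hb₁⟩ := exists_bases_nhd h.coh h.rank x (h.free x hx)
  obtain ⟨_, ⟨Ua, hUa, rfl⟩, hxU, hle⟩ :=
    X.isBasis_affineOpens.exists_subset_of_mem_open (show x ∈ U₁ from hU₁) U₁.isOpen
  let U : X.affineOpens := ⟨Ua, hUa⟩
  let b : Fin r → Γ(F, U.1) := fun i => AModX.res F hle (b₁ i)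
  refine ⟨W.presheaf.germ U.1 x hxU (wedge φ U b), ?_⟩
  have hb1 : ∀ V : X.Opens, IsAffineOpen V → ∀ h : V ≤ U.1, Function.Bijective
      fun c : Fin 1 → Γ(X, V) => ∑ i, c i • AModX.res W h ((fun _ : Fin 1 => wedge φ U b) i) := by
    intro V hV h
    obtain ⟨B, hB⟩ := TopDiff.basis_of_unique (R := Γ(X, V)) (fun i => AModX.res F h (b i)) (res_bases hle hb₁ V hV h)
    have h2 := (φ ⟨V, hV⟩).symm.bijective.comp (TopDiff.bijective_ιMulti_basis B)
    refine (congrArg Function.Bijective (funext fun c => ?_)).mpr (h2.comp (Equiv.funUnique (Fin 1) Γ(X, V)).bijective)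
    rw [Fin.sum_univ_one, show AModX.res W h (wedge φ U b) = wedge φ ⟨V, hV⟩ (fun i => AModX.res F h (b i)) from
      hφ U ⟨V, hV⟩ h b]
    show c 0 • (φ ⟨V, hV⟩).symm _ = (φ ⟨V, hV⟩).symm (c 0 • _)
    rw [map_smul, hB]
    rfl
  have h3 := (germ_sum_bijective (fun _ : Fin 1 => wedge φ U b) hb1 hxU).comp
    (Equiv.funUnique (Fin 1) (X.presheaf.stalk x)).symm.bijective
  refine (congrArg Function.Bijective (funext fun c => ?_)).mpr h3
  show c • _ = ∑ i : Fin 1, _
  rw [Fin.sum_univ_one]
  rfl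

/-- The bidual of a coherent module with generators in codimension at most one. -/
theorem isRef1_ddual {W : X.Modules} (hW : Coh.IsCoh W) {g : W.presheaf.stalk (genericPoint X)} (hg : IsGen g) :
    RefHull.IsRef1 (RefHull.ddual W) := by
  have hR := RefX.isCoh_dual (RefX.isCoh_dual hW)
  obtain ⟨U, hU, f, hf, -⟩ := exists_frame_of_gen hR (hg.map _ (bidual_bijective_of_gen hW hg))
  exact ⟨hR, isReflexive_dual (RefX.isCoh_dual hW), genInvertible_of_frame hU hf⟩

/-- Frobenius multiplies the class of a module which is a line bundle in codimension one by `p`. -/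
theorem ddual_frob_iso (hX : Pi1.IsNormalScheme X) {W : X.Modules} (hW : Coh.IsCoh W)
    (hgen : ∀ x : X, Order.coheight x ≤ 1 → ∃ t : W.presheaf.stalk x, IsGen t) :
    RefHull.IsRef1 (RefHull.ddual W) ∧
      Nonempty (RefHull.ddual ((Scheme.Modules.pullback (FrobSch.frob X p)).obj W) ≅
        RefPow.refPow (RefHull.ddual W) p) := by
  let F' := (Scheme.Modules.pullback (FrobSch.frob X p)).obj W
  have hF' : Coh.IsCoh F' := ⟨QCoh.isQCoh_pullback _ hW.1, QCoh.isFT_pullback _ hW.1 hW.2⟩
  obtain ⟨g, hg⟩ := hgen _ coheight_eta_le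
  obtain ⟨U₀, hη₀, e₀, he₀, hge⟩ := exists_frame_of_gen hW hg
  have hL := isRef1_ddual hW hg
  have hgen₀ : IsGen (M := F') (F'.presheaf.germ U₀ _ hη₀ (PerfPic.fpull p e₀)) :=
    IsGen.of_frame (PerfPic.isFrame_fpull p he₀) hη₀
  have hL' := isRef1_ddual hF' hgen₀
  let w := RefHull.stalkMapₗ (RefHull.bidualMap W) (genericPoint X) g
  let w' := RefHull.stalkMapₗ (RefHull.bidualMap F') (genericPoint X) (F'.presheaf.germ U₀ _ hη₀ (PerfPic.fpull p e₀))
  have hne : ∀ {M : X.Modules} {v : M.presheaf.stalk (genericPoint X)}, IsGen v → v ≠ 0 := fun {M} {v} hv h0 =>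
    one_ne_zero (α := X.functionField) (hv.1 (show (1 : X.presheaf.stalk (genericPoint X)) • v =
      (0 : X.presheaf.stalk (genericPoint X)) • v by rw [h0, smul_zero, smul_zero]))
  have hw : w ≠ 0 := hne (hg.map _ (bidual_bijective_of_gen hW hg))
  have hw' : w' ≠ 0 := hne (hgen₀.map _ (bidual_bijective_of_gen hF' hgen₀))
  have hord : ∀ x : X, Order.coheight x = 1 → ordF (RefHull.ddual F') w' x = (p : ℤ) * ordF (RefHull.ddual W) w x := by
    intro x hx
    obtain ⟨t, ht⟩ := hgen x hx.le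
    obtain ⟨U, hxU, e, he, hte⟩ := exists_frame_of_gen hW ht
    have hU : genericPoint X ∈ U ⊓ U₀ := ⟨eta_mem hxU, hη₀⟩
    obtain ⟨c, hc⟩ := he.exists_coord (inf_le_left : U ⊓ U₀ ≤ U) (AModX.res W (inf_le_right : U ⊓ U₀ ≤ U₀) e₀)
    let cη : X.presheaf.stalk (genericPoint X) := X.presheaf.germ (U ⊓ U₀) _ hU c
    have h₀ : g = cη • gsp W x t := by
      rw [← hge, ← RefX.germ_res W (inf_le_right : U ⊓ U₀ ≤ U₀) hU e₀, hc, QCoh.germ_smul', RefX.germ_res, ← hte,
        sp_germ]
    have hc0 : cη ≠ 0 := fun h => hne hg (by rw [h₀, h, zero_smul])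
    have hgx : IsGen (M := F') (F'.presheaf.germ U x hxU (PerfPic.fpull p e)) :=
      IsGen.of_frame (PerfPic.isFrame_fpull p he) hxU
    have key' : w' = cη ^ p • gsp (RefHull.ddual F') x
        (RefHull.stalkMapₗ (RefHull.bidualMap F') x (F'.presheaf.germ U x hxU (PerfPic.fpull p e))) := by
      rw [sp_stalkMap, sp_germ, ← map_smul]
      refine congrArg _ ?_
      rw [← RefX.germ_res F' (inf_le_right : U ⊓ U₀ ≤ U₀) hU (PerfPic.fpull p e₀), PerfPic.res_fpull, hc,
        PerfPic.fpull_smul, ← PerfPic.res_fpull, QCoh.germ_smul', RefX.germ_res, map_pow]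
    have key : w = cη • gsp (RefHull.ddual W) x (RefHull.stalkMapₗ (RefHull.bidualMap W) x t) := by
      rw [sp_stalkMap, ← map_smul, ← h₀]
    rw [ordF_eq hL'.1 hx (hgx.map _ (bidual_bijective_of_gen hF' hgx)) (pow_ne_zero (M₀ := X.functionField) p hc0) key',
      ordF_eq hL.1 hx (ht.map _ (bidual_bijective_of_gen hW ht)) hc0 key]
    exact OD.ord_pow (X := X) (φ := (cη : X.functionField)) hc0 x p
  obtain ⟨v, hv, hv'⟩ := exists_ord_refPow hX hL hw p
  exact ⟨hL, iso_of_ord hX hL' (isRef1_refPow hL p) hw' hv fun x hx => by rw [hord x hx, hv' x hx]⟩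

variable {δ : X → ℤ} {n : ℤ}

/-- Symbols annihilating codimension two scale by `p` along reflexive Frobenius pullbacks. -/
theorem act_frob (hX : Pi1.IsNormalScheme X) (hd : Cyc.IsDimFun X δ) (hη : δ (genericPoint X) = n)
    (h0 : ∀ x, 0 ≤ δ x) {k : ℕ} (q : Fin k → invCl X) (hk : n - 2 < k) (hn : 2 ≤ n) {F F' : X.Modules} {r : ℕ}
    (hF : LowBundle F r) (e : F' ≅ RefHull.ddual ((Scheme.Modules.pullback (FrobSch.frob X p)).obj F)) :
    act δ n (∏ i, D (q i)) (cls δ n F') - (r : ℤ) • act δ n (∏ i, D (q i)) (cls δ n (Coh.structureModule X)) =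
      (p : ℤ) • (act δ n (∏ i, D (q i)) (cls δ n F) -
        (r : ℤ) • act δ n (∏ i, D (q i)) (cls δ n (Coh.structureModule X))) := by
  set P := act δ n (∏ i, D (q i)) with hP
  have kill : ∀ z ∈ G δ n (n - 2), P z = 0 := fun z hz => by
    have h := act_prod_mem hd (Finset.univ : Finset (Fin k)) q (m := n - 2) (by omega) hz
    rwa [G_eq_bot h0 (by rw [Finset.card_univ, Fintype.card_fin]; omega), AddSubgroup.mem_bot] at h
  have hW := ExtPowSh.isExtPow F r hF.coh.1
  have hWc := RhoSh6.isCoh_of_isExtPow hF.coh hW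
  obtain ⟨hL, ⟨j⟩⟩ := ddual_frob_iso p hX hWc fun x hx => hF.exists_gen_extPow hW hx
  have hF1 := hF.frob p
  have e1 := kill _ (sub_rank_smul_add_det_mem' hX hd hη hF.coh hF.free hF.rank hW)
  have e2 := kill _ (sub_rank_smul_add_det_mem' hX hd hη hF1.coh hF1.free hF1.rank
    (ExtPowSh.isExtPow_pullback (FrobSch.frob X p) hF.coh.1 hW))
  have hc1 := cohLe_top hd hη hF1.coh
  have hc2 := cohLe_top hd hη hF1.ddual.coh
  have e3 := kill _ (sub_mem_of_map (m := n - 2) (RefHull.bidualMap _) hc1 hc2 fun x hx => by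
    rw [show (CycLib.stalkLin (RefHull.bidualMap ((Scheme.Modules.pullback (FrobSch.frob X p)).obj F)) x : _ → _) =
      RefHull.stalkMapₗ (RefHull.bidualMap _) x from funext fun t => stalkLin_eq _ x t]
    refine hF1.bidual_bijective ?_
    by_cases hxe : genericPoint X = x
    · exact hxe ▸ coheight_eta_le
    · have h1 := (hd _ _ (eta_le x) hxe).1
      exact (coheight_eq_one hd hη (by omega)).le)
  rw [cls_iso j.symm (cohLe_top hd hη (isRef1_refPow hL p).1) |>.symm, map_add, map_sub, map_sub, map_zsmul,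
    hP, act_refPow hX hd hη h0 q hk hn hL p, ← hP] at e2
  rw [map_add, map_sub, map_sub, map_zsmul] at e1
  rw [map_sub] at e3
  rw [cls_iso e (cohLe_of_iso e.symm hc2), sub_eq_zero.1 e3]
  set a := P (cls δ n F) with ha
  set o := P (cls δ n (Coh.structureModule X)) with ho
  set l := P (cls δ n (RefHull.ddual (ExtPowSh.L F r))) with hl
  set b := P (cls δ n ((Scheme.Modules.pullback (FrobSch.frob X p)).obj F)) with hb
  have ea : a - (r : ℤ) • o = l - o := by rw [← sub_eq_zero, ← e1]; abel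
  rw [ea, ← sub_eq_zero, ← e2]
  abel

end Groth.Agent.Deform.RefChK
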