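import Groth.Agent.Deform.RefChK.Symbol
import Groth.Agent.Ref1X.OD2
import Groth.Prelude.Def_RefPow

/-!
# Classes of rank one reflexive modules modulo codimension two
-/

set_option autoImplicit false
set_option linter.unusedSectionVars false
set_option linter.style.haveILetI false
set_option backward.isDefEq.respectTransparency false
set_option backward.isDefEq.respectTransparency.types false
set_option maxHeartbeats 1000000

universe u

open CategoryTheory CategoryTheory.Limits AlgebraicGeometry TopologicalSpace Opposite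

namespace Groth.Agent.Deform.RefChK

open Groth.Agent H9ChowK Ref1X

attribute [local instance] Abelian.hasFiniteBiproducts

variable {X : Scheme.{u}} [IsIntegral X] [IsLocallyNoetherian X] {δ : X → ℤ} {n : ℤ}

theorem coheight_eq_one (hd : Cyc.IsDimFun X δ) (hη : δ (genericPoint X) = n) {x : X} (hx : δ x = n - 1) :
    Order.coheight x = 1 := by
  have hne : genericPoint X ≠ x := fun h => by rw [← h, hη] at hx; omega
  have hmax : Order.coheight (genericPoint X) = 0 := by
    rw [Order.coheight_eq_zero]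
    intro b _
    exact eta_le b
  refine le_antisymm ?_ ((le_add_self).trans (coheight_add_one_le (eta_le x) hne))
  rw [show (1 : ℕ∞) = ((1 : ℕ) : ℕ∞) from rfl, Order.coheight_le_coe_iff]
  intro y hy
  suffices h : y = genericPoint X by rw [h, hmax]; exact zero_lt_one
  by_contra hy'
  have h1 := (hd y x hy.le hy.ne').1
  have h2 := (hd _ y (eta_le y) (Ne.symm hy')).1
  omega

theorem stalkLin_eq {A B : X.Modules} (f : A ⟶ B) (x : X) (t : A.presheaf.stalk x) :
    CycLib.stalkLin f x t = RefHull.stalkMapₗ f x t := by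
  obtain ⟨U, hU, hx, m, rfl⟩ := CycLib.exists_germ_affine _ t
  exact (CycLib.stalkAdd_germ f x hx m).trans (RefHull.stalkMapₗ_germ f x hx m).symm

variable (hX : Pi1.IsNormalScheme X)

include hX in
/-- Rational sections with comparable divisors give a map whose cokernel has the lengths of the difference. -/
theorem exists_map (hd : Cyc.IsDimFun X δ) (hη : δ (genericPoint X) = n) {L B : X.Modules}
    (hL : RefHull.IsRef1 L) (hB : RefHull.IsRef1 B) {s : L.presheaf.stalk (genericPoint X)} (hs : s ≠ 0)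
    {t : B.presheaf.stalk (genericPoint X)} (ht : t ≠ 0)
    (h : ∀ x : X, Order.coheight x = 1 → ordF L s x ≤ ordF B t x) :
    ∃ Q : X.Modules, Cyc.CohLe δ (n - 1) Q ∧ cls δ n B - cls δ n L - cls δ n Q ∈ G δ n (n - 2) ∧
      ∀ x, δ x = n - 1 → Cyc.sheafFun δ (n - 1) Q x = ordF B t x - ordF L s x := by
  obtain ⟨gL, hgL⟩ := exists_gen_eta hL.2.2
  obtain ⟨gB, hgB⟩ := exists_gen_eta hB.2.2
  have hs' := one_dim hgL hs
  have ht' := one_dim hgB ht
  let eL := LinearEquiv.ofBijective (LinearMap.toSpanSingleton (X.presheaf.stalk (genericPoint X)) _ s) hs'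
  let T : L.presheaf.stalk (genericPoint X) →ₗ[X.presheaf.stalk (genericPoint X)] B.presheaf.stalk (genericPoint X) :=
    (LinearMap.toSpanSingleton (X.presheaf.stalk (genericPoint X)) _ t).comp eL.symm.toLinearMap
  have hT : ∀ c : X.presheaf.stalk (genericPoint X), T (c • s) = c • t := fun c => by
    show (eL.symm (c • s)) • t = c • t
    rw [show c • s = eL c from rfl, LinearEquiv.symm_apply_apply]
  obtain ⟨ψ, hψ⟩ := exists_hom hX hB.1 hB.2.1 T fun y hy m => by
    by_cases hm : gsp L y m = 0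
    · rw [hm, map_zero]; exact ⟨0, map_zero _⟩
    obtain ⟨c, hc⟩ := hs'.2 (gsp L y m)
    dsimp only at hc
    have hc0 : c ≠ 0 := fun h0 => hm (by rw [← hc, h0, zero_smul])
    have h0 : 0 ≤ ordF L (c • s) y := (mem_range_gsp hX hL hy (smul_ne_zero' hs' hc0)).1 ⟨m, hc.symm⟩
    rw [← hc, hT, mem_range_gsp hX hB hy (smul_ne_zero' ht' hc0), ordF_smul hX hB hy ht hc0]
    rw [ordF_smul hX hL hy hs hc0] at h0
    have := h y hy
    omega
  have hcL := cohLe_top hd hη hL.1
  have hcB := cohLe_top hd hη hB.1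
  have hψs : RefHull.stalkMapₗ ψ (genericPoint X) s = t := by
    rw [hψ, ← one_smul (X.presheaf.stalk (genericPoint X)) s, hT, one_smul]
  have loc : ∀ x : X, Order.coheight x = 1 → ∃ (a : X.presheaf.stalk x) (gl : L.presheaf.stalk x)
      (gb : B.presheaf.stalk x), IsGen gl ∧ IsGen gb ∧ a ≠ 0 ∧ CycLib.stalkLin ψ x gl = a • gb ∧
        ((Ring.ord (X.presheaf.stalk x) a).toNat : ℤ) = ordF B t x - ordF L s x := by
    intro x hx
    obtain ⟨gl, φ, hgl, hsφ, hφ'⟩ := exists_coord hX hL hx s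
    obtain ⟨hφ, ordL⟩ := hφ' hs
    obtain ⟨gb, hgb⟩ := exists_gen_of_coheight_one hX hB hx
    obtain ⟨a, ha⟩ := hgb.2 (RefHull.stalkMapₗ ψ x gl)
    dsimp only at ha
    have e : t = φ • spR X (eta_le x) a • gsp B x gb := by
      rw [← hψs, hsφ, map_smul, ← sp_stalkMap, ← ha]
      exact congrArg (φ • ·) (sp_smul (M := B) (eta_le x) a gb)
    have ha0 : a ≠ 0 := fun h0 => ht (by rw [e, h0, map_zero, zero_smul, smul_zero])
    have hag : spR X (eta_le x) a ≠ 0 := fun h0 => ha0 (spR_injective x (h0.trans (map_zero _).symm))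
    have ordB : ordF B t x = Scheme.ord (X := X) (φ * spR X (eta_le x) a) x :=
      ordF_eq hB.1 hx hgb (mul_ne_zero (M₀ := X.functionField) hφ hag) (by rw [mul_smul]; exact e)
    have e2 : Scheme.ord (X := X) (φ * spR X (eta_le x) a) x =
        Scheme.ord (X := X) φ x + Scheme.ord (X := X) (spR X (eta_le x) a) x := Scheme.ord_mul hφ hag
    refine ⟨a, gl, gb, hgl, hgb, ha0, by rw [stalkLin_eq, ha], ?_⟩
    rw [ordB, e2, ordL, spR_eq_algebraMap, ord_algebraMap hx ha0]
    ring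
  have qK := QCoh.isQCoh_kernel hcL.1.1 hcB.1.1 ψ
  have hK := cohLe_of_mono (kernel.ι ψ) qK hcL
  have qQ := (QCoh.isCoh_cokernel hcL.1.1 hcB.1 ψ).1
  have hQ := cohLe_of_epi (cokernel.π ψ) qQ hcB
  have qI := QCoh.isQCoh_cokernel qK hcL.1.1 (kernel.ι ψ)
  have exactQ : ∀ x : X, Function.Surjective (CycLib.stalkLin (cokernel.π ψ) x) ∧
      ∀ b, CycLib.stalkLin (cokernel.π ψ) x b = 0 → ∃ a, CycLib.stalkLin ψ x a = b := by
    intro x
    have e2 : (ShortComplex.mk (Abelian.factorThruCoimage ψ) (cokernel.π ψ)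
        (by rw [← cancel_epi (Abelian.coimage.π ψ), ← Category.assoc, Abelian.coimage.fac, cokernel.condition,
          comp_zero])).ShortExact :=
      { exact := ShortComplex.exact_of_g_is_cokernel _ (CokernelCofork.IsColimit.ofπ' _ _ fun {W} k hk =>
          ⟨cokernel.desc ψ k (by rw [← Abelian.coimage.fac ψ, Category.assoc, hk, comp_zero]),
            cokernel.π_desc _ _ _⟩) }
    obtain ⟨-, b2, b3⟩ := CycLib.stalk_shortExact e2 qI hcB.1.1 qQ x
    refine ⟨b3, fun b hb => ?_⟩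
    obtain ⟨i, hi⟩ := (b2 b).1 hb
    obtain ⟨a, ha⟩ := (CycLib.stalk_shortExact (KZ.shortExact_of_mono (kernel.ι ψ)) qK hcL.1.1 qI x).2.2 i
    refine ⟨a, ?_⟩
    rw [← Abelian.coimage.fac ψ, stalkLin_comp]
    exact (congrArg _ ha).trans hi
  have injx : ∀ x : X, n - 2 < δ x → Function.Injective (CycLib.stalkLin ψ x) := by
    intro x hx
    refine (injective_iff_map_eq_zero _).2 fun v hv => ?_
    have h1 : RefHull.stalkMapₗ ψ (genericPoint X) (gsp L x v) = 0 := by
      rw [← sp_stalkMap, ← stalkLin_eq, hv, map_zero]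
    obtain ⟨c, hc⟩ := hs'.2 (gsp L x v)
    dsimp only at hc
    rw [← hc, map_smul, hψs] at h1
    have hc0 : c = 0 := by_contra fun h0 => smul_ne_zero' ht' h0 h1
    exact gsp_injective hL.1 hL.2.1 x (by rw [← hc, hc0, zero_smul, map_zero])
  have etab : Function.Bijective (CycLib.stalkLin ψ (genericPoint X)) := by
    refine ⟨injx _ (by omega), fun v => ?_⟩
    obtain ⟨c, rfl⟩ := ht'.2 v
    exact ⟨c • s, by rw [stalkLin_eq, map_smul, hψs]⟩
  have etaonly : ∀ x, δ x = n → x = genericPoint X := fun x hx => by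
    by_contra hne
    exact absurd hx ((hd _ _ (eta_le x) (Ne.symm hne)).1.trans_eq hη).ne
  have hQ1 : Cyc.CohLe δ (n - 1) (cokernel ψ) := ⟨hQ.1, fun x hx => by
    have := hQ.2 x hx
    by_contra hlt
    have hxe := etaonly x (by omega)
    subst hxe
    refine not_subsingleton_iff_nontrivial.2 hx (subsingleton_of_forall_eq 0 fun q => ?_)
    obtain ⟨b, rfl⟩ := (exactQ _).1 q
    obtain ⟨a, rfl⟩ := etab.2 b
    rw [← stalkLin_comp, cokernel.condition, stalkLin_zero]⟩
  have hK2 : Cyc.CohLe δ (n - 2) (kernel ψ) := ⟨hK.1, fun x hx => le_of_not_gt fun hgt => by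
    obtain ⟨a1, a2, -⟩ := CycLib.stalk_shortExact (KZ.shortExact_of_mono (kernel.ι ψ)) qK hcL.1.1 qI x
    refine not_subsingleton_iff_nontrivial.2 hx (subsingleton_of_forall_eq 0 fun v => a1 ?_)
    refine Eq.trans ?_ (map_zero _).symm
    refine injx x hgt ((stalkLin_comp (kernel.ι ψ) ψ x v).symm.trans ?_)
    rw [kernel.condition, stalkLin_zero, map_zero]⟩
  refine ⟨cokernel ψ, hQ1, ?_, fun x hx => ?_⟩
  · rw [show cls δ n B - cls δ n L - cls δ n (cokernel ψ) = -cls δ n (kernel ψ) by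
      rw [eq_neg_iff_add_eq_zero, sub_sub, sub_add_eq_add_sub, cls_four ψ hcL hcB, sub_self]]
    exact neg_mem (cls_mem hK2)
  · obtain ⟨a, gl, gb, hgl, hgb, ha0, hga, hord⟩ := loc x (coheight_eq_one hd hη hx)
    let p : X.presheaf.stalk x →ₗ[X.presheaf.stalk x] (cokernel ψ).presheaf.stalk x :=
      (CycLib.stalkLin (cokernel.π ψ) x).comp (LinearMap.toSpanSingleton (X.presheaf.stalk x) _ gb)
    have hsur : Function.Surjective p := fun q => by
      obtain ⟨b, rfl⟩ := (exactQ x).1 q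
      obtain ⟨c, rfl⟩ := hgb.2 b
      exact ⟨c, rfl⟩
    have hker : LinearMap.ker p = Ideal.span {a} := by
      refine le_antisymm (fun r hr => ?_) (Ideal.span_le.2 (Set.singleton_subset_iff.2 ?_))
      · obtain ⟨v, hv⟩ := (exactQ x).2 (r • gb) hr
        obtain ⟨c, rfl⟩ := hgl.2 v
        refine Ideal.mem_span_singleton'.2 ⟨c, hgb.1 ?_⟩
        show (c * a) • gb = r • gb
        rw [mul_smul, ← hga, ← map_smul]
        exact hv
      · show CycLib.stalkLin (cokernel.π ψ) x (a • gb) = 0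
        rw [← hga, ← stalkLin_comp, cokernel.condition, stalkLin_zero]
    have hlen := (((Submodule.quotEquivOfEq _ _ hker.symm).trans (p.quotKerEquivOfSurjective hsur))).length_eq
    rw [Cyc.sheafFun, if_pos hx, ← hlen, ← hord]
    rfl

include hX in
/-- The class of a rank one reflexive module is affine in its divisor, modulo codimension two. -/
theorem add_sub_add_mem (hd : Cyc.IsDimFun X δ) (hη : δ (genericPoint X) = n) {L₁ L₂ L : X.Modules}
    (h₁ : RefHull.IsRef1 L₁) (h₂ : RefHull.IsRef1 L₂) (hL : L = RefPow.refTensor L₁ L₂) :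
    cls δ n L + cls δ n (Coh.structureModule X) - (cls δ n L₁ + cls δ n L₂) ∈ G δ n (n - 2) := by
  subst hL
  obtain ⟨g₁, hg₁⟩ := exists_gen_eta h₁.2.2
  obtain ⟨g₂, hg₂⟩ := exists_gen_eta h₂.2.2
  obtain ⟨s₁, hs₁⟩ := exists_ne_zero h₁.2.2
  obtain ⟨s₂, hs₂⟩ := exists_ne_zero h₂.2.2
  obtain ⟨w, hw, hord⟩ := exists_ord_refTensor hX h₁ h₂ hs₁ hs₂
  classical
  let E : X → ℤ := fun x => if Order.coheight x = 1 then
    max (ordF L₁ s₁ x) 0 + max (ordF L₂ s₂ x) 0 else 0
  have hE : ∀ V : X.Opens, IsAffineOpen V → {y : X | y ∈ V ∧ E y ≠ 0}.Finite := fun V hV => by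
    refine ((finite_ordF_ne_zero hX h₁ hs₁ hV).union (finite_ordF_ne_zero hX h₂ hs₂ hV)).subset ?_
    rintro y ⟨hyV, hy⟩
    simp only [E] at hy
    split_ifs at hy with h1
    · by_cases h : ordF L₁ s₁ y = 0
      · exact Or.inr ⟨hyV, h1, fun h' => hy (by rw [h, h']; rfl)⟩
      · exact Or.inl ⟨hyV, h1, h⟩
    · exact absurd rfl hy
  obtain ⟨B, hB, b, hb, hbE⟩ := OD.exists_ref1 (D := E) hE (fun y hy => if_neg hy) hX
  have hu0 : RefX.unitStalk (genericPoint X) 1 ≠ 0 := fun h0 =>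
    one_ne_zero (α := X.functionField) ((RefX.unitStalk (genericPoint X)).injective (h0.trans (map_zero _).symm))
  have hEx : ∀ x : X, Order.coheight x = 1 → ordF B b x = max (ordF L₁ s₁ x) 0 + max (ordF L₂ s₂ x) 0 :=
    fun x hx => (hbE x hx).trans (if_pos hx)
  obtain ⟨Q₁, hQ₁, m₁, l₁⟩ := exists_map hX hd hη h₁ hB hs₁ hb fun x hx => by rw [hEx x hx]; omega
  obtain ⟨Q₂, hQ₂, m₂, l₂⟩ := exists_map hX hd hη h₂ hB hs₂ hb fun x hx => by rw [hEx x hx]; omega
  obtain ⟨Q₀, hQ₀, m₀, l₀⟩ := exists_map hX hd hη isRef1_unit hB hu0 hb fun x hx => by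
    rw [hEx x hx, ordF_unit hx]; omega
  obtain ⟨Q, hQ, m, l⟩ := exists_map hX hd hη (isRef1_refTensor h₁ h₂) hB hw hb fun x hx => by
    rw [hEx x hx, hord x hx]; omega
  have hfun : Cyc.sheafFun δ (n - 1) (Q₁ ⊞ Q₂) = Cyc.sheafFun δ (n - 1) (Q ⊞ Q₀) := by
    have hadd : ∀ {M N : X.Modules}, Cyc.CohLe δ (n - 1) M → Cyc.CohLe δ (n - 1) N →
        Cyc.sheafFun δ (n - 1) (M ⊞ N) = Cyc.sheafFun δ (n - 1) M + Cyc.sheafFun δ (n - 1) N :=
      fun {M N} hM hN => by
        have h := biprod_shortExact M N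
        have e := CycLib.sheafFun_shortExact hd h hM.1 (cohLe_biprod hM hN).1 hN.1 (cohLe_biprod hM hN).2
        exact e
    rw [hadd hQ₁ hQ₂, hadd hQ hQ₀]
    funext x
    by_cases hx : δ x = n - 1
    · have hx1 := coheight_eq_one hd hη hx
      rw [Pi.add_apply, Pi.add_apply, l₁ x hx, l₂ x hx, l x hx, l₀ x hx, ordF_unit hx1, hord x hx1]
      omega
    · simp only [Pi.add_apply, Cyc.sheafFun, if_neg hx, add_zero]
  have hm := sub_mem_of_sheafFun (n := n) hd (by omega) (cohLe_biprod hQ₁ hQ₂) (cohLe_biprod hQ hQ₀) hfun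
  rw [show n - 1 - 1 = n - 2 by ring] at hm
  have e : ∀ {M N : X.Modules}, Cyc.CohLe δ (n - 1) M → Cyc.CohLe δ (n - 1) N →
      cls δ n (M ⊞ N) = cls δ n M + cls δ n N := fun {M N} hM hN =>
    KZ.clSub_ses _ (biprod_shortExact M N) (cohLe_mono (by omega) hM) (cohLe_mono (by omega) (cohLe_biprod hM hN))
      (cohLe_mono (by omega) hN)
  rw [e hQ₁ hQ₂, e hQ hQ₀] at hm
  have := add_mem (sub_mem (add_mem m₁ m₂) (add_mem m m₀)) hm
  refine (eq_iff_iff.1 (congrArg (· ∈ G δ n (n - 2)) ?_)).1 this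
  show _ = cls δ n (RefHull.ddual (CohB1.tensorMod L₁ L₂)) + _ - _
  abel

end Groth.Agent.Deform.RefChK
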