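import Groth.Agent.Deform.RefChK.DivCls
import Groth.Agent.Nakai.KleimanDeg
import Groth.Agent.H23.SetupLFT
import Groth.Agent.CycLib.P1Div
import Groth.Agent.FibDim.BaseField
import Groth.Agent.PnCoh.Chow.Proper
import Groth.Agent.Ref1X.Powers

/-!
# Dimension functions and Euler characteristics on projective varieties
-/

set_option autoImplicit false
set_option linter.unusedSectionVars false
set_option linter.style.haveILetI false
set_option backward.isDefEq.respectTransparency false
set_option backward.isDefEq.respectTransparency.types false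

universe u

open CategoryTheory CategoryTheory.Limits AlgebraicGeometry

namespace Groth.Agent.Deform.RefChK

open Groth.Agent H9ChowK

variable (k : Type u) [Field k] {X : Scheme.{u}} [X.Over (Spec (CommRingCat.of k))]

theorem isProper_of_proj (hproj : ∃ (N : ℕ) (ι : X ⟶ CohB1.ProjSpace N k), IsClosedImmersion ι ∧
    ι ≫ CohB1.ProjSpace.toSpec N k = X ↘ Spec (CommRingCat.of k)) :
    IsProper (X ↘ Spec (CommRingCat.of k)) := by
  obtain ⟨N, ι, hι, he⟩ := hproj
  haveI : IsProper (CohB1.ProjSpace.toSpec N k) := PnCoh.Chow.isProper_toSpec N k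
  rw [← he]
  infer_instance

variable [IsProper (X ↘ Spec (CommRingCat.of k))]

include k in
/-- The dimension function of a variety over a field. -/
theorem exists_delta [IsIntegral X] {N : ℕ} (hdim : topologicalKrullDim X = (N : ℕ)) :
    ∃ δ : X → ℤ, Cyc.IsSetup X δ ∧ δ (genericPoint X) = N := by
  let f := X ↘ Spec (CommRingCat.of k)
  have hδ : Cyc.DeltaCompat f (fun x => ((FibDim.rd f x : ℕ) : ℤ)) (fun _ => (0 : ℤ)) := fun x =>
    ⟨FibDim.rd f x, (FibDim.rd_eq_rdeg f x).symm, (zero_add _).symm⟩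
  have hs := H23.SetupLFT.isSetup f (CycLib.isSetup_spec_field k) hδ
  refine ⟨_, hs, ?_⟩
  haveI := FibDim.subsingleton_spec_field k
  have h := FibDim.topologicalKrullDim_closure f (genericPoint X)
  have he : closure ({genericPoint X} : Set X) = Set.univ := genericPoint_spec X
  rw [((Homeomorph.setCongr he).trans (Homeomorph.Set.univ X)).isHomeomorph.topologicalKrullDim_eq, hdim] at h
  exact_mod_cast h.symm

variable {δ : X → ℤ} {n : ℤ}

/-- The Euler characteristic on the Grothendieck group. -/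
theorem exists_chiHom [IsLocallyNoetherian X] {d : ℕ} (hd : topologicalKrullDim X ≤ d) :
    ∃ χ : KZero.K0sub (Cyc.CohLe δ n) →+ ℤ,
      ∀ F, Cyc.CohLe δ n F → χ (cls δ n F) = FGA.eulerCharLE k X F d := by
  obtain ⟨χ, hχ⟩ := KZ.exists_liftSub (Cyc.CohLe δ n) (fun F => Curv2.euler k X F) fun S hS h₁ h₂ h₃ =>
    CurveCohLib.euler_additive hS h₁.1 h₂.1 h₃.1
  exact ⟨χ, fun F hF => (hχ F hF).trans (Nakai.eulerCharLE_eq_euler k hd hF.1.1).symm⟩

/-- The intersection symbol through the action on classes. -/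
theorem intNum_eq [IsLocallyNoetherian X] {d r : ℕ} {χ : KZero.K0sub (Cyc.CohLe δ n) →+ ℤ}
    (hχ : ∀ F, Cyc.CohLe δ n F → χ (cls δ n F) = FGA.eulerCharLE k X F d) (M : Fin r → X.Modules)
    (hM : ∀ i, PicF.IsInvertible (M i)) {F : X.Modules} (hF : Cyc.CohLe δ n F) :
    FGA.intNum k X d M F = χ (act δ n (∏ i, D (mk (M i) (hM i))) (cls δ n F)) := by
  refine Eq.trans ?_ (congrArg χ (altSum_eq M hM hF))
  rw [map_sum, FGA.intNum]
  refine Finset.sum_congr rfl fun I _ => ?_
  rw [map_zsmul, smul_eq_mul]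
  refine congrArg ((-1 : ℤ) ^ I.card * ·) (hχ _ ?_).symm
  have hP : PicF.IsInvertible (FGA.tensorList ((I.sort (· ≤ ·)).map M)) := by
    generalize I.sort (· ≤ ·) = l
    induction l with
    | nil => exact PicLoc.isInvertible_structureModule X
    | cons a l ih => exact H23.PicMul.isInvertible_tensor (hM a) ih
  exact cohLe_of_iso (H23.PicMul.comm _ _).some (cohLe_tensor hP hF)

/-- Symbols of reflexive powers are affine. -/
theorem act_refPow [IsIntegral X] [IsLocallyNoetherian X] (hX : Pi1.IsNormalScheme X) (hd : Cyc.IsDimFun X δ)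
    (hη : δ (genericPoint X) = n) (h0 : ∀ x, 0 ≤ δ x) {r : ℕ} (q : Fin r → invCl X) (hr : n - 2 < r)
    (hn : 2 ≤ n) {ℒ : X.Modules} (hℒ : RefHull.IsRef1 ℒ) (m : ℕ) :
    act δ n (∏ i, D (q i)) (cls δ n (RefPow.refPow ℒ m)) = act δ n (∏ i, D (q i)) (cls δ n (Coh.structureModule X)) +
      (m : ℤ) • (act δ n (∏ i, D (q i)) (cls δ n ℒ) - act δ n (∏ i, D (q i)) (cls δ n (Coh.structureModule X))) := by
  induction m with
  | zero => rw [RefPow.refPow_zero, Nat.cast_zero, zero_smul, add_zero]
  | succ m ih =>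
    cases m with
    | zero => rw [RefPow.refPow_one, Nat.zero_add, Nat.cast_one, one_smul, add_sub_cancel]
    | succ m =>
      have key := act_prod_mem hd (Finset.univ : Finset (Fin r)) q (m := n - 2) (by omega)
        (add_sub_add_mem (L := RefPow.refPow ℒ (m + 2)) hX hd hη (Ref1X.isRef1_refPow hℒ (m + 1)) hℒ rfl)
      rw [G_eq_bot h0 (by rw [Finset.card_univ, Fintype.card_fin]; omega), AddSubgroup.mem_bot, map_sub, map_add,
        map_add, sub_eq_zero] at key
      rw [eq_sub_of_add_eq key, ih]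
      rw [show ((m + 1 + 1 : ℕ) : ℤ) = ((m + 1 : ℕ) : ℤ) + 1 by push_cast; ring, add_smul, one_smul]
      abel

end Groth.Agent.Deform.RefChK
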