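import Groth.Agent.Deform.RefChK.Euler
import Groth.Agent.Div21Lib.Invertible

/-!
# Reflexive powers twisted by invertible modules
-/

set_option autoImplicit false
set_option linter.unusedSectionVars false
set_option linter.style.haveILetI false
set_option backward.isDefEq.respectTransparency false
set_option backward.isDefEq.respectTransparency.types false

universe u

open CategoryTheory CategoryTheory.Limits AlgebraicGeometry

namespace Groth.Agent.Deform.RefChK

open Groth.Agent H9ChowK Ref1X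

variable {X : Scheme.{u}} [IsIntegral X] [IsLocallyNoetherian X] {δ : X → ℤ} {n : ℤ}

/-- Reflexive powers have multiplied divisors. -/
theorem exists_ord_refPow (hX : Pi1.IsNormalScheme X) {L : X.Modules} (hL : RefHull.IsRef1 L)
    {s : L.presheaf.stalk (genericPoint X)} (hs : s ≠ 0) :
    ∀ m : ℕ, ∃ w : (RefPow.refPow L m).presheaf.stalk (genericPoint X), w ≠ 0 ∧
      ∀ x : X, Order.coheight x = 1 → ordF (RefPow.refPow L m) w x = (m : ℤ) * ordF L s x
  | 0 => ⟨RefX.unitStalk (genericPoint X) 1, fun h0 =>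
      one_ne_zero (α := X.functionField) ((RefX.unitStalk (genericPoint X)).injective (h0.trans (map_zero _).symm)),
      fun x hx => by rw [Nat.cast_zero, zero_mul]; exact ordF_unit hx⟩
  | 1 => ⟨s, hs, fun x _ => by rw [Nat.cast_one, one_mul]; rfl⟩
  | m + 2 => by
    obtain ⟨w, hw, hord⟩ := exists_ord_refPow hX hL hs (m + 1)
    obtain ⟨w', hw', hord'⟩ := exists_ord_refTensor hX (isRef1_refPow hL (m + 1)) hL hw hs
    refine ⟨w', hw', fun x hx => (hord' x hx).trans ?_⟩
    rw [hord x hx]
    push_cast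
    ring

/-- The reflexive product with an invertible module is the tensor product, on classes. -/
theorem cls_refTensor_invertible (hd : Cyc.IsDimFun X δ) (hη : δ (genericPoint X) = n) (h0 : ∀ x, 0 ≤ δ x)
    {R A : X.Modules} (hR : RefHull.IsRef1 R) (hA : PicF.IsInvertible A) :
    cls δ n (RefPow.refTensor R A) = op δ n (mk A hA) (cls δ n R) := by
  rw [op_cls (mk A hA) rfl (cohLe_top hd hη hR.1)]
  have hA1 := Div21Lib.isRef1_of_invertible hA
  have hT := cohLe_tensor hA (cohLe_top hd hη hR.1)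
  have h := sub_mem_of_map (m := -1) (RefHull.bidualMap (CohB1.tensorMod R A)) hT
    (cohLe_top hd hη (isRef1_refTensor hR hA1).1) fun x _ => by
      rw [show (CycLib.stalkLin (RefHull.bidualMap (CohB1.tensorMod R A)) x : _ → _) =
        RefHull.stalkMapₗ (RefHull.bidualMap _) x from funext fun t => stalkLin_eq _ x t]
      refine (RefX.stalkMap_bidual_bijective_iff hT.1 x).2 ?_
      obtain ⟨t, ht, -⟩ := H23.RatSec.exists_gen hA x
      obtain ⟨e, -⟩ := exists_tau (F := R) x ht
      haveI : Module.IsReflexive (X.presheaf.stalk x) (R.presheaf.stalk x) := (RefX.isReflexive_iff hR.1).1 hR.2.1 x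
      exact Module.equiv e
  rw [G_eq_bot h0 (by omega), AddSubgroup.mem_bot] at h
  exact sub_eq_zero.1 h

/-- Iterated reflexive products with an invertible module. -/
theorem exists_iterate (hX : Pi1.IsNormalScheme X) (hd : Cyc.IsDimFun X δ) (hη : δ (genericPoint X) = n)
    (h0 : ∀ x, 0 ≤ δ x) {R A : X.Modules} (hR : RefHull.IsRef1 R) (hA : PicF.IsInvertible A)
    {w : R.presheaf.stalk (genericPoint X)} (hw : w ≠ 0) {a : A.presheaf.stalk (genericPoint X)} (ha : a ≠ 0) :
    ∀ j : ℕ, ∃ (S : X.Modules) (v : S.presheaf.stalk (genericPoint X)), RefHull.IsRef1 S ∧ v ≠ 0 ∧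
      (∀ x : X, Order.coheight x = 1 → ordF S v x = ordF R w x + (j : ℤ) * ordF A a x) ∧
      cls δ n S = act δ n (MonoidAlgebra.of ℤ (invCl X) (mk A hA) ^ j) (cls δ n R) := by
  intro j
  induction j with
  | zero => exact ⟨R, w, hR, hw, fun x _ => by simp, by rw [pow_zero, map_one]; rfl⟩
  | succ j ih =>
    obtain ⟨S, v, hS, hv, hord, hcls⟩ := ih
    have hA1 := Div21Lib.isRef1_of_invertible hA
    obtain ⟨v', hv', hord'⟩ := exists_ord_refTensor hX hS hA1 hv ha
    refine ⟨_, v', isRef1_refTensor hS hA1, hv', fun x hx => (hord' x hx).trans ?_, ?_⟩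
    · rw [hord x hx]; push_cast; ring
    · rw [cls_refTensor_invertible hd hη h0 hS hA, hcls, pow_succ', map_mul, act_of]
      rfl

/-- A power of a unit in terms of `d = 1 - a⁻¹`. -/
theorem pow_expand {Λ : Type*} [CommRing Λ] {A B : Λ} (hAB : A * B = 1) (m : ℕ) :
    ∃ R : Λ, A ^ m = 1 + (m : Λ) * (1 - B) + (((m + 1).choose 2 : ℕ) : Λ) * (1 - B) ^ 2 + (1 - B) ^ 3 * R := by
  induction m with
  | zero => exact ⟨0, by simp⟩
  | succ m ih =>
    obtain ⟨R, hR⟩ := ih
    have hc : (m + 1 + 1).choose 2 = (m + 1).choose 2 + (m + 1) := by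
      rw [Nat.choose_succ_succ', Nat.choose_one_right, add_comm]
    refine ⟨A * (1 + (m : Λ) + (((m + 1).choose 2 : ℕ) : Λ) + R), ?_⟩
    rw [pow_succ, hR, hc]
    simp only [Nat.cast_add, Nat.cast_one]
    linear_combination ((1 + (1 - B) + (1 - B) ^ 2) + (m : Λ) * (1 - B) * (1 + (1 - B)) +
      (((m + 1).choose 2 : ℕ) : Λ) * (1 - B) ^ 2) * hAB

end Groth.Agent.Deform.RefChK
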