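import Groth.Agent.Deform.RefChK.Basic
import Groth.Agent.Ref1X.Class

/-!
# The symbol of a rank one reflexive module
-/

set_option autoImplicit false
set_option linter.unusedSectionVars false
set_option linter.style.haveILetI false
set_option backward.isDefEq.respectTransparency false
set_option backward.isDefEq.respectTransparency.types false

universe u

open CategoryTheory CategoryTheory.Limits AlgebraicGeometry
open Groth.Agent.H23.PicMul

namespace Groth.Agent.Deform.RefChK

open Groth.Agent H9ChowK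

variable {X : Scheme.{u}}

theorem isInvertible_of_inverse {L M : X.Modules} (hL : PicF.IsInvertible L)
    (e : Nonempty (CohB1.tensorMod L M ≅ Coh.structureModule X)) : PicF.IsInvertible M := by
  obtain ⟨D, hD, hLD⟩ := H23.PicInv.exists_inverse hL
  have h1 : PicF.cl L * PicF.cl M = 1 := cl_eq_iff.2 e
  have h2 : PicF.cl L * PicF.cl D = 1 := cl_eq_iff.2 hLD
  obtain ⟨i⟩ := cl_eq_iff.1 ((isUnit_cl hL).mul_left_cancel (h2.trans h1.symm))
  exact isInvertible_of_iso i hD

/-- An invertible module as an invertible class. -/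
noncomputable def mk (M : X.Modules) (hM : PicF.IsInvertible M) : invCl X := ⟨PicF.cl M, M, rfl, hM⟩

theorem mk_tensor {A B : X.Modules} (hA : PicF.IsInvertible A) (hB : PicF.IsInvertible B)
    (h : PicF.IsInvertible (CohB1.tensorMod A B)) : mk (CohB1.tensorMod A B) h = mk A hA * mk B hB :=
  Subtype.ext (cl_tensor A B)

variable [IsLocallyNoetherian X] {δ : X → ℤ} {n : ℤ}

theorem symbol_eq {r : ℕ} (M : Fin r → X.Modules) (hM : ∀ i, PicF.IsInvertible (M i)) {A B : X.Modules}
    (hA : Cyc.CohLe δ n A) (hB : Cyc.CohLe δ n B) :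
    ∑ I : Finset (Fin r), ((-1 : ℤ) ^ I.card) •
        (cls δ n (CohB1.tensorMod (FGA.tensorList ((I.sort (· ≤ ·)).map M)) A) -
          cls δ n (CohB1.tensorMod (FGA.tensorList ((I.sort (· ≤ ·)).map M)) B)) =
      act δ n (∏ i, D (mk (M i) (hM i))) (cls δ n A - cls δ n B) := by
  simp only [smul_sub, Finset.sum_sub_distrib, map_sub]
  exact congrArg₂ (· - ·) (altSum_eq M hM hA) (altSum_eq M hM hB)

variable [IsIntegral X]

theorem le_eta (hd : Cyc.IsDimFun X δ) (x : X) : δ x ≤ δ (genericPoint X) := by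
  by_cases hx : genericPoint X = x
  · rw [← hx]
  · exact (hd _ _ (genericPoint_specializes x) hx).1.le

theorem cohLe_top (hd : Cyc.IsDimFun X δ) (hη : δ (genericPoint X) = n) {F : X.Modules} (hF : Coh.IsCoh F) :
    Cyc.CohLe δ n F := ⟨hF, fun x _ => (le_eta hd x).trans hη.le⟩

theorem unit_sub_mem (hd : Cyc.IsDimFun X δ) (hη : δ (genericPoint X) = n) {ℒ : X.Modules}
    (hℒ : RefHull.IsRef1 ℒ) : cls δ n (Coh.structureModule X) - cls δ n ℒ ∈ G δ n (n - 1) := by
  refine sub_mem_of_sheafFun hd le_rfl (cohLe_top hd hη RefX.isCoh_unit) (cohLe_top hd hη hℒ.1) ?_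
  obtain ⟨g, hg⟩ := Ref1X.exists_gen_eta hℒ.2.2
  funext x
  by_cases hx : δ x = n
  · have : genericPoint X = x := by_contra fun hne => absurd hx ((hd _ _ (genericPoint_specializes x) hne).1.trans_eq hη).ne
    subst this
    have hlen := ((RefX.unitStalk (genericPoint X)).symm.trans
      (LinearEquiv.ofBijective (LinearMap.toSpanSingleton (X.presheaf.stalk (genericPoint X)) _ g) hg)).length_eq
    simp only [Cyc.sheafFun, if_pos hx, hlen]
  · simp only [Cyc.sheafFun, if_neg hx]

end Groth.Agent.Deform.RefChK
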